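import Mathlib

/-! Arad–Herzog for `SL`: `exists_dual` (separating functional), `exists_sl_pair` (SL is transitive
on independent pairs in dimension ≥ 3), `exists_pair_of_nonscalar`, `exists_trace`
(the trace of `A * g B g⁻¹`, `det g = 1`, takes every value). -/

set_option autoImplicit false

namespace Cfsg.Agent.Elu.AH

open Module

section
variable {F V : Type*} [Field F] [AddCommGroup V] [Module F V]

theorem exists_dual {W : Submodule F V} {y : V} (hy : y ∉ W) :
    ∃ ψ : Dual F V, ψ y = 1 ∧ ∀ w ∈ W, ψ w = 0 := by
  obtain ⟨f, hf, hW⟩ := Submodule.exists_le_ker_of_notMem hy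
  refine ⟨(f y)⁻¹ • f, by simp [hf], fun w hw => ?_⟩
  have : f w = 0 := hW hw
  simp [this]

theorem exists_notMem_span_pair [FiniteDimensional F V] (h3 : 3 ≤ finrank F V) (u v : V) :
    ∃ w, w ∉ Submodule.span F ({u, v} : Set V) := by
  classical
  by_contra h
  push Not at h
  have htop : Submodule.span F ({u, v} : Set V) = ⊤ := eq_top_iff.2 fun w _ => h w
  have h1 := finrank_span_finset_le_card (R := F) ({u, v} : Finset V)
  have h2 : ({u, v} : Finset V).card ≤ 2 := Finset.card_le_two
  unfold Set.finrank at h1
  rw [Finset.coe_pair, htop, finrank_top] at h1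
  omega

theorem exists_gl_pair {x x' u u' : V} (hx : LinearIndependent F ![x, x'])
    (hu : LinearIndependent F ![u, u']) : ∃ g : V ≃ₗ[F] V, g x = u ∧ g x' = u' := by
  have qD {D D' : V} (hD : LinearIndependent F ![D, D']) :
    hD.linearCombinationEquiv (Finsupp.single 0 1) = D := by simp
  have qD' {D D' : V} (hD : LinearIndependent F ![D, D']) :
    hD.linearCombinationEquiv (Finsupp.single 1 1) = D' := by simp
  let f := hx.linearCombinationEquiv.symm ≪≫ₗ hu.linearCombinationEquiv
  have : FiniteDimensional F (Submodule.span F (Set.range ![x, x'])) :=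
    FiniteDimensional.span_of_finite F (Set.finite_range _)
  obtain ⟨g, hg⟩ := Submodule.exists_linearEquiv_restrict_eq f
  refine ⟨g, ?_, ?_⟩
  · conv_lhs => rw [← qD hx, ← hg]
    conv_rhs => rw [← qD hu]
    simp [f]
  · conv_lhs => rw [← qD' hx, ← hg]
    conv_rhs => rw [← qD' hu]
    simp [f]

theorem exists_sl_pair [FiniteDimensional F V] (h3 : 3 ≤ finrank F V) {x x' u u' : V}
    (hx : LinearIndependent F ![x, x']) (hu : LinearIndependent F ![u, u']) :
    ∃ g : V ≃ₗ[F] V, LinearEquiv.det g = 1 ∧ g x = u ∧ g x' = u' := by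
  obtain ⟨g, h1, h2⟩ := exists_gl_pair hx hu
  obtain ⟨w, hw⟩ := exists_notMem_span_pair h3 u u'
  obtain ⟨ψ, hψ, hW⟩ := exists_dual hw
  have hu0 : ψ u = 0 := hW _ (Submodule.subset_span (by simp))
  have hu1 : ψ u' = 0 := hW _ (Submodule.subset_span (by simp))
  set c : Fˣ := (LinearEquiv.det g)⁻¹ with hc
  have hun : IsUnit (1 + ψ ((c.val - 1) • w)) := by simp [hψ]
  refine ⟨LinearEquiv.dilatransvection hun * g, ?_, ?_, ?_⟩
  · have : LinearEquiv.det (LinearEquiv.dilatransvection hun) = c := by
      simp [← Units.val_inj, LinearEquiv.coe_det, LinearMap.transvection.det, hψ]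
    rw [map_mul, this, hc, inv_mul_cancel]
  · rw [LinearEquiv.mul_apply, h1, LinearEquiv.dilatransvection.apply, hu0, zero_smul, add_zero]
  · rw [LinearEquiv.mul_apply, h2, LinearEquiv.dilatransvection.apply, hu1, zero_smul, add_zero]

theorem li_pair_of_notMem {u v : V} (hu : u ≠ 0) (hv : v ∉ Submodule.span F ({u} : Set V)) :
    LinearIndependent F ![u, v] := by
  rw [LinearIndependent.pair_iff' hu]
  intro a ha
  exact hv (Submodule.mem_span_singleton.2 ⟨a, ha⟩)

theorem exists_pair_of_nonscalar (B : End F V) (hB : ∀ c : F, B ≠ c • 1) :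
    ∃ x, LinearIndependent F ![x, B x] := by
  by_contra h
  push Not at h
  have h' : ∀ x, ¬ LinearIndependent F ![x, B x] := h
  obtain ⟨c, hc⟩ := LinearMap.exists_eq_smul_id_of_forall_notLinearIndependent h'
  exact hB c hc

theorem li_pair_of_notMem' {x y z : V} (h : LinearIndependent F ![x, y])
    (hz : z ∉ Submodule.span F ({x, y} : Set V)) : LinearIndependent F ![x, z] := by
  have hx : x ≠ 0 := by simpa using h.ne_zero 0
  exact li_pair_of_notMem hx fun e => hz (Submodule.span_mono (by simp) e)

/-- the commutator vector outside `⟨u, A u⟩` -/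
theorem exists_comm [FiniteDimensional F V] (h3 : 3 ≤ finrank F V) (A B : End F V)
    (hA : ∀ c : F, A ≠ c • 1) (hB : ∀ c : F, B ≠ c • 1) :
    ∃ g : V ≃ₗ[F] V, LinearEquiv.det g = 1 ∧ ∃ u : V,
      A (g (B (g.symm u))) - g (B (g.symm (A u))) ∉ Submodule.span F ({u, A u} : Set V) := by
  obtain ⟨x, hx⟩ := exists_pair_of_nonscalar B hB
  by_cases he : ∃ (c : F) (u : V), u ≠ 0 ∧ A u = c • u
  · obtain ⟨c, u0, hu0, hc0⟩ := he
    have : ∃ u y : V, u ≠ 0 ∧ A u = c • u ∧ A y - c • y ∉ Submodule.span F ({u} : Set V) := by
      by_contra hn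
      push Not at hn
      -- the range of `A - c` lies in the line of each eigenvector
      have hr : LinearMap.range (A - c • (1 : End F V)) ≤ Submodule.span F ({u0} : Set V) := by
        rintro _ ⟨y, rfl⟩
        exact hn u0 y hu0 hc0
      have h1 : finrank F (LinearMap.range (A - c • (1 : End F V))) ≤ 1 :=
        (Submodule.finrank_mono hr).trans (finrank_span_singleton hu0).le
      have h2 := LinearMap.finrank_range_add_finrank_ker (A - c • (1 : End F V))
      have h4 : ¬ LinearMap.ker (A - c • (1 : End F V)) ≤ Submodule.span F ({u0} : Set V) := by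
        intro hle
        have := (Submodule.finrank_mono hle).trans (finrank_span_singleton hu0).le
        omega
      obtain ⟨u1, hu1, hu1'⟩ := SetLike.not_le_iff_exists.1 h4
      have hc1 : A u1 = c • u1 := by
        have : A u1 - c • u1 = 0 := hu1
        exact sub_eq_zero.1 this
      have hne : u1 ≠ 0 := by rintro rfl; exact hu1' (Submodule.zero_mem _)
      apply hA c
      ext y
      obtain ⟨s, hs⟩ := Submodule.mem_span_singleton.1 (hn u0 y hu0 hc0)
      obtain ⟨t, ht⟩ := Submodule.mem_span_singleton.1 (hn u1 y hne hc1)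
      by_cases ht0 : t = 0
      · rw [ht0, zero_smul] at ht
        exact sub_eq_zero.1 ht.symm
      · exfalso
        apply hu1'
        refine Submodule.mem_span_singleton.2 ⟨t⁻¹ * s, ?_⟩
        rw [mul_smul, hs, ← ht, smul_smul, inv_mul_cancel₀ ht0, one_smul]
    obtain ⟨u, y, hu, hc, hy⟩ := this
    have hy' : y ∉ Submodule.span F ({u} : Set V) := by
      intro h
      obtain ⟨s, rfl⟩ := Submodule.mem_span_singleton.1 h
      apply hy
      rw [map_smul, hc, smul_comm, sub_self]
      exact Submodule.zero_mem _
    obtain ⟨g, hg, h1, h2⟩ := exists_sl_pair h3 hx (li_pair_of_notMem hu hy')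
    have h1' : g.symm u = x := by rw [← h1, g.symm_apply_apply]
    refine ⟨g, hg, u, ?_⟩
    rw [hc, map_smul, map_smul, map_smul, h1', h2]
    intro h
    apply hy
    refine (Submodule.span_le.2 ?_ : Submodule.span F ({u, c • u} : Set V) ≤ _) h
    rintro _ (rfl | rfl)
    · exact Submodule.mem_span_singleton_self _
    · exact Submodule.smul_mem _ _ (Submodule.mem_span_singleton_self _)
  · push Not at he
    obtain ⟨u, hu⟩ := exists_pair_of_nonscalar A hA
    obtain ⟨x2, hx2⟩ := exists_notMem_span_pair h3 x (B x)
    obtain ⟨g, hg, h1, h2⟩ := exists_sl_pair h3 (li_pair_of_notMem' hx hx2) hu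
    set W := Submodule.span F ({u, A u} : Set V) with hW
    have huW : u ∈ W := Submodule.subset_span (by simp)
    have hvW : A u ∈ W := Submodule.subset_span (by simp)
    set y := g (B x) with hy
    set z := g (B x2) with hz
    have hyW : y ∉ W := by
      intro h
      obtain ⟨s, t, hst⟩ := Submodule.mem_span_pair.1 h
      rw [← h2, ← h1, hy, ← map_smul, ← map_smul, ← map_add] at hst
      have hst := g.injective hst
      by_cases ht : t = 0
      · rw [ht, zero_smul, add_zero] at hst
        have hx0 : x ≠ 0 := by simpa using hx.ne_zero 0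
        exact (LinearIndependent.pair_iff' hx0).1 hx s hst
      · apply hx2
        refine Submodule.mem_span_pair.2 ⟨-(t⁻¹ * s), t⁻¹, ?_⟩
        rw [← hst]
        match_scalars <;> field_simp <;> ring
    by_contra hn
    push Not at hn
    -- modification by a transvection fixing `W`
    have key : ∀ (ψ : Dual F V) (w : V), ψ w = 0 → (∀ v ∈ W, ψ v = 0) →
        A (y + ψ y • w) - (z + ψ z • w) ∈ W := by
      intro ψ w hw hψ
      have := hn (LinearEquiv.transvection hw * g) (by simp [hg]) u
      have e1 : (LinearEquiv.transvection hw * g).symm u = x := by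
        rw [LinearEquiv.symm_apply_eq, LinearEquiv.mul_apply, h1, LinearEquiv.transvection.apply,
          hψ u huW, zero_smul, add_zero]
      have e2 : (LinearEquiv.transvection hw * g).symm (A u) = x2 := by
        rw [LinearEquiv.symm_apply_eq, LinearEquiv.mul_apply, h2, LinearEquiv.transvection.apply,
          hψ _ hvW, zero_smul, add_zero]
      rw [e1, e2, LinearEquiv.mul_apply, LinearEquiv.mul_apply, LinearEquiv.transvection.apply,
        LinearEquiv.transvection.apply] at this
      exact this
    have k0 : A y - z ∈ W := by simpa using key 0 0 rfl fun _ _ => rfl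
    have hAW : ∀ w ∈ W, A w ∈ W := by
      intro w hw
      obtain ⟨ψ, hψ, hψW⟩ := exists_dual hyW
      have := key ψ w (hψW w hw) hψW
      rw [hψ, one_smul, map_add] at this
      have h5 := W.add_mem (W.sub_mem this k0) (W.smul_mem (ψ z) hw)
      convert h5 using 1
      abel
    by_cases hzW : z ∈ W ⊔ Submodule.span F ({y} : Set V)
    · obtain ⟨w, hw, _, hy2, hsum⟩ := Submodule.mem_sup.1 hzW
      obtain ⟨c, rfl⟩ := Submodule.mem_span_singleton.1 hy2
      have hinj : Function.Injective (A - c • (1 : End F V)) := by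
        rw [injective_iff_map_eq_zero]
        intro v hv
        by_contra h0
        exact he c v h0 (sub_eq_zero.1 hv)
      have hres : ∀ v ∈ W, (A - c • (1 : End F V)) v ∈ W := fun v hv =>
        W.sub_mem (hAW v hv) (W.smul_mem c hv)
      have hsurj : Function.Surjective ((A - c • (1 : End F V)).restrict hres) :=
        LinearMap.surjective_of_injective fun _ _ e => Subtype.ext (hinj (congrArg Subtype.val e))
      have hm : (A - c • (1 : End F V)) y ∈ W := by
        have := W.add_mem k0 hw
        rw [← hsum] at this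
        convert this using 1
        simp only [LinearMap.sub_apply, LinearMap.smul_apply, End.one_apply]
        abel
      obtain ⟨v, hv⟩ := hsurj ⟨_, hm⟩
      have : v.1 = y := hinj (congrArg Subtype.val hv)
      exact hyW (this ▸ v.2)
    · obtain ⟨ψ, hψ, hψW⟩ := exists_dual hzW
      have hy0 : ψ y = 0 := hψW y (Submodule.mem_sup_right (Submodule.mem_span_singleton_self _))
      have := key ψ y hy0 fun v hv => hψW v (Submodule.mem_sup_left hv)
      rw [hy0, zero_smul, add_zero, hψ, one_smul] at this
      apply hyW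
      have h5 := W.sub_mem k0 this
      convert h5 using 1
      abel

/-- the trace of `A * g B g⁻¹` with `det g = 1` takes every value -/
theorem exists_trace [FiniteDimensional F V] (h3 : 3 ≤ finrank F V) (A B : End F V)
    (hA : ∀ c : F, A ≠ c • 1) (hB : ∀ c : F, B ≠ c • 1) (s : F) :
    ∃ g : V ≃ₗ[F] V, LinearEquiv.det g = 1 ∧
      LinearMap.trace F V (A * (g.toLinearMap * B * g.symm.toLinearMap)) = s := by
  obtain ⟨g, hg, u, hu⟩ := exists_comm h3 A B hA hB
  obtain ⟨φ, hφ, hW⟩ := exists_dual hu
  have h1 : φ u = 0 := hW _ (Submodule.subset_span (by simp))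
  have h2 : φ (A u) = 0 := hW _ (Submodule.subset_span (by simp))
  set B' : End F V := g.toLinearMap * B * g.symm.toLinearMap with hB'
  have hφ' : φ (A (B' u)) - φ (B' (A u)) = 1 := by rw [← map_sub]; exact hφ
  set t : F := LinearMap.trace F V (A * B') - s with ht
  have h3 : (t • φ) u = 0 := by simp [h1]
  refine ⟨LinearEquiv.transvection h3 * g, by simp [hg], ?_⟩
  have e : A * ((LinearEquiv.transvection h3 * g).toLinearMap * B *
      (LinearEquiv.transvection h3 * g).symm.toLinearMap) =
      A * B' + t • (φ ∘ₗ B').smulRight (A u) - t • φ.smulRight (A (B' u)) -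
        (t * t * φ (B' u)) • φ.smulRight (A u) := by
    ext v
    have e1 : (LinearEquiv.transvection h3 * g).symm v = g.symm (v - (t * φ v) • u) := by
      rw [LinearEquiv.symm_apply_eq, LinearEquiv.mul_apply, g.apply_symm_apply,
        LinearEquiv.transvection.apply]
      simp [h1]
    have e2 : ∀ w, g (B (g.symm w)) = B' w := fun _ => rfl
    simp only [End.mul_apply, LinearEquiv.coe_coe, e1, LinearEquiv.mul_apply, e2,
      LinearEquiv.transvection.apply, LinearMap.sub_apply, LinearMap.add_apply,
      LinearMap.smul_apply, LinearMap.smulRight_apply, LinearMap.comp_apply, map_add, map_sub,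
      map_smul, smul_eq_mul]
    module
  rw [e]
  simp only [map_sub, map_add, map_smul, LinearMap.trace_smulRight, LinearMap.comp_apply, h2,
    smul_eq_mul]
  linear_combination (-t) * hφ' - ht

end

end Cfsg.Agent.Elu.AH
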