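import Mathlib

/-! Finite 2-groups with an involutory automorphism `a` and a commuting action `s` of the multiplicative monoid of a finite
field `F` of characteristic 2 such that the fixed points of `a` form an `F`-space of dimension at most one (`Dat`, `Good`).
`Good` passes to invariant subgroups and quotients (`Good.sub`, `Good.quot`); `s` is additive on elementary abelian sections
(`Good.hom_add`), commutators are semi-bilinear (`Good.comm_sq`). -/

set_option autoImplicit false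
set_option linter.unusedSectionVars false

universe u

namespace Cfsg.Agent.Elu.Sg
open Subgroup
open scoped commutatorElement

/-- An involution `a` and a commuting action `s` of `F`. -/
structure Dat (F : Type*) [Field F] (Q : Type*) [Group Q] where
  a : Q →* Q
  s : F → Q →* Q
  aa : ∀ x, a (a x) = x
  as : ∀ c x, a (s c x) = s c (a x)
  s0 : ∀ x, s 0 x = 1
  s1 : ∀ x, s 1 x = x
  sm : ∀ c d x, s (c * d) x = s c (s d x)

variable {F : Type*} [Field F] {Q : Type*} [Group Q]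

/-- The fixed points of `a` form an `F`-space of dimension at most one. -/
structure Good (D : Dat F Q) : Prop where
  two : IsPGroup 2 Q
  sq : ∀ x, D.a x = x → x * x = 1
  add : ∀ c d x, D.a x = x → D.s (c + d) x = D.s c x * D.s d x
  gen : ∀ x y, D.a x = x → D.a y = y → x ≠ 1 → ∃ c, y = D.s c x

namespace Dat
variable (D : Dat F Q)

/-- Invariant subgroups. -/
def Inv (N : Subgroup Q) : Prop := (∀ x ∈ N, D.a x ∈ N) ∧ ∀ c, ∀ x ∈ N, D.s c x ∈ N

/-- The fixed points of `a`. -/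
def C : Subgroup Q := D.a.eqLocus (MonoidHom.id Q)

/-- The induced structure on a quotient. -/
def quot (N : Subgroup Q) [N.Normal] (h : D.Inv N) : Dat F (Q ⧸ N) where
  a := QuotientGroup.map N N D.a h.1
  s c := QuotientGroup.map N N (D.s c) (h.2 c)
  aa x := QuotientGroup.induction_on x fun x => congrArg QuotientGroup.mk (D.aa x)
  as c x := QuotientGroup.induction_on x fun x => congrArg QuotientGroup.mk (D.as c x)
  s0 x := QuotientGroup.induction_on x fun x => congrArg QuotientGroup.mk (D.s0 x)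
  s1 x := QuotientGroup.induction_on x fun x => congrArg QuotientGroup.mk (D.s1 x)
  sm c d x := QuotientGroup.induction_on x fun x => congrArg QuotientGroup.mk (D.sm c d x)

/-- The induced structure on a subgroup. -/
def sub (N : Subgroup Q) (h : D.Inv N) : Dat F N where
  a := (D.a.comp N.subtype).codRestrict N fun x => h.1 x x.2
  s c := ((D.s c).comp N.subtype).codRestrict N fun x => h.2 c x x.2
  aa x := Subtype.ext (D.aa x)
  as c x := Subtype.ext (D.as c x)
  s0 x := Subtype.ext (D.s0 x)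
  s1 x := Subtype.ext (D.s1 x)
  sm c d x := Subtype.ext (D.sm c d x)

variable {D}

theorem quot_a {N : Subgroup Q} [N.Normal] (h : D.Inv N) (x : Q) : (D.quot N h).a x = (D.a x : Q ⧸ N) := rfl
theorem quot_s {N : Subgroup Q} [N.Normal] (h : D.Inv N) (c : F) (x : Q) : (D.quot N h).s c x = (D.s c x : Q ⧸ N) := rfl
theorem mem_C {x : Q} : x ∈ D.C ↔ D.a x = x := Iff.rfl

theorem s_inv {c : F} (hc : c ≠ 0) (x : Q) : D.s c⁻¹ (D.s c x) = x := by rw [← D.sm, inv_mul_cancel₀ hc, D.s1]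

theorem s_comm (c d : F) (x : Q) : D.s c (D.s d x) = D.s d (D.s c x) := by rw [← D.sm, mul_comm, D.sm]

theorem inv_C : D.Inv D.C := ⟨fun x h => D.aa x |>.trans (mem_C.1 h).symm, fun c x h => by rw [mem_C, D.as, mem_C.1 h]⟩

theorem inv_center : D.Inv (center Q) := by
  refine ⟨fun x h => mem_center_iff.2 fun y => ?_, fun c x h => mem_center_iff.2 fun y => ?_⟩
  · rw [← D.aa y, ← map_mul, mem_center_iff.1 h, map_mul]
  · by_cases hc : c = 0
    · rw [hc, D.s0, mul_one, one_mul]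
    · rw [← s_inv (D := D) (inv_ne_zero hc) y, inv_inv, ← map_mul, mem_center_iff.1 h, map_mul]

end Dat

/-- The subgroup generated by the squares. -/
def Sq (Q : Type*) [Group Q] : Subgroup Q := closure (Set.range fun x : Q => x * x)

theorem map_mem_Sq {R : Type*} [Group R] (f : Q →* R) {x : Q} (h : x ∈ Sq Q) : f x ∈ Sq R :=
  (closure_le (K := (Sq R).comap f)).2 (by rintro _ ⟨y, rfl⟩; exact subset_closure ⟨f y, (map_mul f y y).symm⟩) h

instance normal_Sq : (Sq Q).Normal := ⟨fun _ h g => map_mem_Sq (MulAut.conj g).toMonoidHom h⟩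

theorem inv_Sq (D : Dat F Q) : D.Inv (Sq Q) := ⟨fun _ => map_mem_Sq _, fun _ _ => map_mem_Sq _⟩

theorem quot_Sq_sq (x : Q ⧸ Sq Q) : x * x = 1 := QuotientGroup.induction_on x fun x =>
  (QuotientGroup.eq_one_iff (x * x)).2 (subset_closure ⟨x, rfl⟩)

theorem hom_eq_of_Sq {E : Type*} [Group E] (f : Q →* E) (hf : ∀ x, f x * f x = 1) {x y : Q} (h : (x : Q ⧸ Sq Q) = y) :
    f x = f y := by
  have : f (x⁻¹ * y) = 1 := (closure_le (K := f.ker)).2 (by rintro _ ⟨y, rfl⟩; exact (map_mul f y y).trans (hf y))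
    (QuotientGroup.eq.1 h)
  rwa [map_mul, map_inv, inv_mul_eq_one] at this

theorem comm_of_sq (h : ∀ x : Q, x * x = 1) (x y : Q) : x * y = y * x := by
  have e : ∀ x : Q, x⁻¹ = x := fun x => inv_eq_of_mul_eq_one_right (h x)
  rw [← e (x * y), mul_inv_rev, e, e]

theorem bl {G₁ G₂ E : Type*} [Group E] (B : G₁ → G₂ → E) (s₁ : F → G₁ → G₁) (s₂ : F → G₂ → G₂) (s₃ : F → E → E)
    (e : ∀ c x y, B (s₁ c x) (s₂ c y) = s₃ c (B x y)) (h₁ : ∀ c x y, B (s₁ (c + 1) x) y = B (s₁ c x) y * B x y)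
    (h₂ : ∀ c x y, B x (s₂ (c + 1) y) = B x (s₂ c y) * B x y) (h₃ : ∀ c x y, s₃ (c + 1) (B x y) = s₃ c (B x y) * B x y)
    (hs : ∀ x y, B x y * B x y = 1) (c : F) (x : G₁) (y : G₂) : B (s₁ c x) y = B x (s₂ c y) := by
  have := e (c + 1) x y
  rw [h₁, h₂, h₂, h₃, e, mul_assoc, mul_right_inj, ← mul_assoc, mul_eq_right] at this
  rw [eq_inv_of_mul_eq_one_left this, inv_eq_of_mul_eq_one_right (hs _ _)]

theorem comm_mul_left {x x' y : Q} (h : ⁅x', y⁆ ∈ center Q) : ⁅x * x', y⁆ = ⁅x, y⁆ * ⁅x', y⁆ := by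
  rw [mem_center_iff.1 h, ← mul_inv_cancel_right ⁅x', y⁆ x, ← mem_center_iff.1 h x]
  simp only [commutatorElement_def]; group

theorem comm_mul_right {x y y' : Q} (h : ⁅x, y'⁆ ∈ center Q) : ⁅x, y * y'⁆ = ⁅x, y⁆ * ⁅x, y'⁆ := by
  rw [← mul_inv_cancel_right ⁅x, y'⁆ y, ← mem_center_iff.1 h y]
  simp only [commutatorElement_def]; group

namespace Good
open Dat
variable {D : Dat F Q} [Finite Q]

theorem sub (h : Good D) (N : Subgroup Q) (hN : D.Inv N) : Good (D.sub N hN) :=
  ⟨h.two.to_subgroup N, fun x e => Subtype.ext (h.sq x (congrArg Subtype.val e)),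
    fun c d x e => Subtype.ext (h.add c d x (congrArg Subtype.val e)), fun x y e e' n =>
      (h.gen x y (congrArg Subtype.val e) (congrArg Subtype.val e') fun k => n (Subtype.ext k)).imp fun _ k => Subtype.ext k⟩

theorem exists_fix (h : Good D) {N : Subgroup Q} (hN : ∀ x ∈ N, D.a x ∈ N) (h0 : N ≠ ⊥) : ∃ x ∈ N, x ≠ 1 ∧ D.a x = x := by
  classical
  have := Fintype.ofFinite N
  let σ : Equiv.Perm N := Function.Involutive.toPerm (fun x => ⟨D.a x, hN x x.2⟩) fun x => Subtype.ext (D.aa x)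
  obtain ⟨b, h1, h2⟩ := Equiv.Perm.exists_fixed_point_of_prime' (p := 2) (n := 1) (σ := σ) (a := 1) (by
    rw [← Nat.card_eq_fintype_card]
    exact ((h.two.to_subgroup N).card_eq_or_dvd).resolve_left (mt card_eq_one.1 h0))
    (Equiv.ext fun x => Subtype.ext (D.aa x)) (Subtype.ext (map_one _))
  exact ⟨b, b.2, fun e => h2 (Subtype.ext e), congrArg Subtype.val h1⟩

theorem C_le (h : Good D) {N : Subgroup Q} (hN : D.Inv N) (h0 : N ≠ ⊥) : D.C ≤ N := fun y hy => by
  obtain ⟨x, h1, h2, h3⟩ := h.exists_fix hN.1 h0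
  obtain ⟨c, rfl⟩ := h.gen x y h3 hy h2
  exact hN.2 c x h1

theorem central (h : Good D) : D.C ≤ center Q := by
  rcases subsingleton_or_nontrivial Q with e | e
  · exact fun x _ => mem_center_iff.2 fun y => Subsingleton.elim _ _
  · exact h.C_le inv_center (nontrivial_iff_ne_bot _ |>.1 h.two.center_nontrivial)

theorem normal (h : Good D) : D.C.Normal := ⟨fun x hx g => by
  rwa [mem_center_iff.1 (h.central hx) g, mul_inv_cancel_right]⟩

theorem quotC (h : Good D) [D.C.Normal] : Good (D.quot D.C inv_C) := by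
  have m : ∀ x : Q, (D.quot D.C inv_C).a x = x → x⁻¹ * D.a x ∈ D.C := fun x e => QuotientGroup.eq.1 e.symm
  have k : ∀ x y : Q, x⁻¹ * D.a x ∈ D.C → x⁻¹ * D.a x = y⁻¹ * D.a y → (x : Q ⧸ D.C) = y := fun x y hx e => by
    rw [QuotientGroup.eq, mem_C, map_mul, map_inv, ← mul_inv_cancel_left y (D.a y), ← e, mem_center_iff.1 (h.central hx),
      ← mul_assoc, mem_center_iff.1 (h.central hx)]
    group
  have p : ∀ x y : Q, x⁻¹ * D.a x ∈ D.C → (x * y)⁻¹ * D.a (x * y) = x⁻¹ * D.a x * (y⁻¹ * D.a y) := fun x y hx => by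
    rw [← mul_assoc _ y⁻¹, ← mem_center_iff.1 (h.central hx), map_mul]; group
  have ds : ∀ c (x : Q), (D.s c x)⁻¹ * D.a (D.s c x) = D.s c (x⁻¹ * D.a x) := fun c x => by rw [D.as, map_mul, map_inv]
  refine ⟨h.two.to_quotient _, fun x => QuotientGroup.induction_on x fun x e => ?_,
    fun c d x => QuotientGroup.induction_on x fun x e => ?_, fun x y => QuotientGroup.induction_on x fun x =>
      QuotientGroup.induction_on y fun y e e' n => ?_⟩
  · exact (k 1 (x * x) (by simp) (by rw [p x x (m x e), h.sq _ (m x e)]; simp)).symm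
  · exact k _ (D.s c x * D.s d x) (ds _ x ▸ inv_C.2 _ _ (m x e)) (by
      rw [p _ _ (ds _ x ▸ inv_C.2 _ _ (m x e)), ds, ds, ds, h.add _ _ _ (m x e)])
  · obtain ⟨c, hc⟩ := h.gen _ _ (m x e) (m y e') fun h1 => n ((QuotientGroup.eq_one_iff x).2 (inv_mul_eq_one.1 h1).symm)
    exact ⟨c, k y (D.s c x) (m y e') (hc.trans (ds c x).symm)⟩

theorem card_lt (h : Good D) [D.C.Normal] [Nontrivial Q] : Nat.card (Q ⧸ D.C) < Nat.card Q := by
  obtain ⟨x, -, h1, h2⟩ := h.exists_fix (N := ⊤) (fun _ _ => trivial) top_ne_bot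
  rw [card_eq_card_quotient_mul_card_subgroup D.C]
  exact lt_mul_of_one_lt_right Nat.card_pos (one_lt_card_iff_ne_bot _ |>.2 fun e => h1 (mem_bot.1 (e ▸ h2)))

theorem of_surj {R : Type*} [Group R] (D' : Dat F R) (n : ℕ) : ∀ {Q : Type u} [Group Q] [Finite Q] {D : Dat F Q} (f : Q →* R),
    Nat.card Q = n → Good D → Function.Surjective f → (∀ x, f (D.a x) = D'.a (f x)) →
      (∀ c x, f (D.s c x) = D'.s c (f x)) → Good D' := by
  induction n using Nat.strong_induction_on with | _ n ih => ?_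
  intro Q _ _ D f hn h hf ha hs
  by_cases hk : f.ker = ⊥
  · have hi := (MonoidHom.ker_eq_bot_iff f).1 hk
    refine ⟨h.two.of_surjective f hf, hf.forall.2 fun x e => ?_, fun c d => hf.forall.2 fun x e => ?_,
      hf.forall.2 fun x => hf.forall.2 fun y e e' n => ?_⟩
    · rw [← map_mul, h.sq x (hi ((ha x).trans e)), map_one]
    · rw [← hs, ← hs, ← hs, h.add c d x (hi ((ha x).trans e)), map_mul]
    · obtain ⟨c, hc⟩ := h.gen x y (hi ((ha x).trans e)) (hi ((ha y).trans e')) fun k => n (by rw [k, map_one])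
      exact ⟨c, by rw [hc, hs]⟩
  have := h.normal
  have : Nontrivial Q := not_subsingleton_iff_nontrivial.1 fun _ => hk (Subsingleton.elim _ _)
  have le : D.C ≤ f.ker := h.C_le ⟨fun x hx => by rw [MonoidHom.mem_ker, ha, MonoidHom.mem_ker.1 hx, map_one],
    fun c x hx => by rw [MonoidHom.mem_ker, hs, MonoidHom.mem_ker.1 hx, map_one]⟩ hk
  exact ih _ (hn ▸ h.card_lt) (QuotientGroup.lift D.C f le) rfl h.quotC (QuotientGroup.lift_surjective_of_surjective _ _ hf _)
    (fun x => QuotientGroup.induction_on x ha) fun c x => QuotientGroup.induction_on x (hs c)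

theorem quot (h : Good D) (N : Subgroup Q) [N.Normal] (hN : D.Inv N) : Good (D.quot N hN) :=
  of_surj _ _ (QuotientGroup.mk' N) rfl h (QuotientGroup.mk'_surjective N) (fun _ => rfl) fun _ _ => rfl

theorem kap (h : Good D) {u w : F} {x t : Q} (ht : D.a t = t) (e : D.s u x * D.s w x = D.s (u + w) x * t) :
    D.s (u * u) x * D.s (u * w) x * (D.s (u * w) x * D.s (w * w) x) = D.s ((u + w) * (u + w)) x := by
  have c : ∀ c y, y * D.s c t = D.s c t * y := fun c => mem_center_iff.1 (h.central (inv_C.2 c t ht))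
  have e1 := congrArg (D.s u) e
  have e2 := congrArg (D.s w) e
  have e3 := congrArg (D.s (u + w)) e
  simp only [map_mul, ← D.sm] at e1 e2 e3
  rw [mul_comm w u] at e2
  rw [e1, e2, mul_assoc, ← mul_assoc (D.s u t), ← c, mul_assoc, ← h.add _ _ _ ht, ← mul_assoc, mul_comm u, mul_comm w, e3,
    mul_assoc, h.sq _ (inv_C.2 _ t ht), mul_one]

variable [Finite F] [CharP F 2]

theorem exists_sqrt (c : F) : ∃ u, u * u = c := (surjective_frobenius F 2 c).imp fun u e => by rwa [← pow_two]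

theorem add_of_sq (h : Good D) (hs : ∀ x : Q, x * x = 1) (c d : F) (x : Q) : D.s (c + d) x = D.s c x * D.s d x := by
  obtain ⟨u, rfl⟩ := exists_sqrt c
  obtain ⟨w, rfl⟩ := exists_sqrt d
  let _ : CommGroup Q := { (inferInstance : Group Q) with mul_comm := comm_of_sq hs }
  have e := h.add u w (x * D.a x) (by rw [map_mul, D.aa, mul_comm])
  have := h.kap (u := u) (w := w) (x := x) (t := (D.s (u + w) x)⁻¹ * (D.s u x * D.s w x)) (by
    simp only [map_mul, map_inv, D.as] at e ⊢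
    rw [← inv_eq_of_mul_eq_one_right (hs ((D.s (u + w) x)⁻¹ * _)), eq_inv_iff_mul_eq_one, mul_mul_mul_comm, ← mul_inv,
      mul_mul_mul_comm (D.s u _), mul_comm (D.s (u + w) (D.a x)), e, mul_comm (D.s u (D.a x)), mul_comm (D.s w (D.a x)),
      inv_mul_cancel]) (mul_inv_cancel_left _ _).symm
  rw [mul_assoc, ← mul_assoc (D.s (u * w) x), hs, one_mul] at this
  rw [this, CharTwo.add_mul_self]

theorem hom_add (h : Good D) {E : Type*} [Group E] (f : Q →* E) (hf : ∀ x, f x * f x = 1) (c d : F) (x : Q) :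
    f (D.s (c + d) x) = f (D.s c x) * f (D.s d x) :=
  (hom_eq_of_Sq f hf ((h.quot _ (inv_Sq D)).add_of_sq quot_Sq_sq c d x)).trans (map_mul _ _ _)

theorem add_central (h : Good D) (c d : F) {x : Q} (hx : x ∈ center Q) (h2 : x * x = 1) :
    D.s (c + d) x = D.s c x * D.s d x := by
  let N : Subgroup Q :=
    { carrier := {x | x ∈ center Q ∧ x * x = 1}
      one_mem' := ⟨one_mem _, mul_one _⟩
      mul_mem' := fun {a b} ha hb => ⟨mul_mem ha.1 hb.1, by
        rw [mul_assoc, ← mul_assoc b, mem_center_iff.1 ha.1 b, mul_assoc, hb.2, mul_one, ha.2]⟩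
      inv_mem' := fun {a} ha => ⟨inv_mem ha.1, by rw [← mul_inv_rev, ha.2, inv_one]⟩ }
  have hN : D.Inv N := ⟨fun x hx => ⟨inv_center.1 x hx.1, by rw [← map_mul, hx.2, map_one]⟩,
    fun c x hx => ⟨inv_center.2 c x hx.1, by rw [← map_mul, hx.2, map_one]⟩⟩
  exact congrArg Subtype.val ((h.sub N hN).add_of_sq (fun x => Subtype.ext x.2.2) c d ⟨x, hx, h2⟩)

theorem two_gen (h : Good D) (hs : ∀ x : Q, x * x = 1) : ∃ x y : Q, ∀ z, ∃ c d, z = D.s c x * D.s d y := by
  let _ : CommGroup Q := { (inferInstance : Group Q) with mul_comm := comm_of_sq hs }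
  have f : ∀ x, D.a (x * D.a x) = x * D.a x := fun x => by rw [map_mul, D.aa, mul_comm]
  by_cases e : ∃ x, x * D.a x ≠ 1
  · obtain ⟨x, hx⟩ := e
    refine ⟨x, x * D.a x, fun z => ?_⟩
    obtain ⟨c, hc⟩ := h.gen _ _ (f x) (f z) hx
    obtain ⟨d, hd⟩ := h.gen _ (D.s c x * z) (f x) (by
      refine (eq_inv_of_mul_eq_one_left ?_).trans (inv_eq_of_mul_eq_one_right (hs (D.s c x * z)))
      rw [map_mul, mul_mul_mul_comm, D.as, ← map_mul, mul_comm (D.a x), mul_comm (D.a z), hc, hs]) hx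
    exact ⟨c, d, by rw [← hd, ← mul_assoc, hs, one_mul]⟩
  push Not at e
  have g : ∀ x, D.a x = x := fun x => (eq_inv_of_mul_eq_one_right (e x)).trans (inv_eq_of_mul_eq_one_right (hs x))
  rcases subsingleton_or_nontrivial Q with k | k
  · exact ⟨1, 1, fun z => ⟨0, 0, Subsingleton.elim _ _⟩⟩
  obtain ⟨y, hy⟩ := exists_ne (1 : Q)
  exact ⟨1, y, fun z => (h.gen y z (g y) (g z) hy).elim fun c hc => ⟨0, c, by rw [map_one, one_mul, hc]⟩⟩

theorem comm_sq (h : Good D) (hc : ∀ x y : Q, ⁅x, y⁆ ∈ center Q) (h2 : ∀ x y : Q, ⁅x, y⁆ * ⁅x, y⁆ = 1) (u w : F) (x y : Q) :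
    ⁅D.s (u * u) x, D.s (w * w) y⁆ = D.s (u * w) ⁅x, y⁆ := by
  have := bl (fun x y : Q => ⁅x, y⁆) (fun c => D.s c) (fun c => D.s c) (fun c => D.s c)
    (fun c x y => (map_commutatorElement _ _ _).symm) (fun c x y => by
      simpa [D.s1] using h.hom_add (MonoidHom.mk' (fun x => ⁅x, y⁆) fun _ _ => comm_mul_left (hc _ _)) (fun _ => h2 _ _) c 1 x)
    (fun c x y => by
      simpa [D.s1] using h.hom_add (MonoidHom.mk' (fun y => ⁅x, y⁆) fun _ _ => comm_mul_right (hc _ _)) (fun _ => h2 _ _) c 1 y)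
    (fun c x y => by simpa [D.s1] using h.add_central c 1 (hc x y) (h2 x y)) h2
  rw [map_commutatorElement, D.sm u u, this, D.sm w w, s_comm u, ← this w, ← D.sm, ← D.sm, mul_comm w]

end Good

end Cfsg.Agent.Elu.Sg
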