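import Cfsg.Agent.Elu.Sg1

/-! Structure of a `Good` 2-group over a field with more than two elements: it is abelian, or commutators and squares are fixed
by `a` (`Good.struct`); in the non-abelian case it has coordinates `F³` with an explicit product (`Good.exists_model`). -/

set_option autoImplicit false
set_option linter.unusedSectionVars false

universe u

namespace Cfsg.Agent.Elu.Sg
open Subgroup Dat
open scoped commutatorElement

variable {F : Type*} [Field F] [Finite F] [CharP F 2] {Q : Type*} [Group Q] [Finite Q] {D : Dat F Q}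

theorem hall_witt (x y z : Q) : ⁅⁅x, y⁆, y * z * y⁻¹⁆ * (⁅⁅y, z⁆, z * x * z⁻¹⁆ * ⁅⁅z, x⁆, x * y * x⁻¹⁆) = 1 := by
  simp only [commutatorElement_def]; group

namespace Good

theorem inv_comm (h2 : ∀ x y : Q, ⁅x, y⁆ * ⁅x, y⁆ = 1) (x y : Q) : ⁅y, x⁆ = ⁅x, y⁆ := by
  rw [← commutatorElement_inv, inv_eq_of_mul_eq_one_right (h2 x y)]

/-- Class at most two. -/
theorem class_two (h : Good D) [D.C.Normal] {k : F} (hk : k * k + k ≠ 0)
    (hq : ∀ x y : Q ⧸ D.C, ⁅x, y⁆ ∈ (D.quot D.C inv_C).C) (x y : Q) : ⁅x, y⁆ ∈ center Q := by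
  have g := h.quotC
  let W : Subgroup Q := (D.quot D.C inv_C).C.comap (QuotientGroup.mk' D.C)
  have cW : ∀ x y : Q, ⁅x, y⁆ ∈ W := fun x y => by
    rw [mem_comap, map_commutatorElement]; exact hq _ _
  have hW : ∀ w ∈ W, ∀ z, ⁅w, z⁆ ∈ D.C := fun w hw z => by
    rw [← QuotientGroup.eq_one_iff, ← QuotientGroup.mk'_apply, map_commutatorElement, commutatorElement_eq_one_iff_mul_comm]
    exact (mem_center_iff.1 (g.central hw) _).symm
  have sW : ∀ c, ∀ w ∈ W, D.s c w ∈ W := fun c w hw => (inv_C (D := D.quot D.C inv_C)).2 c _ hw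
  have eq : ∀ w w' z : Q, (w : Q ⧸ D.C) = w' → ⁅w, z⁆ = ⁅w', z⁆ := fun w w' z e => by
    have e1 : ⁅w⁻¹ * w', z⁆ = 1 :=
      commutatorElement_eq_one_iff_mul_comm.2 (mem_center_iff.1 (h.central (QuotientGroup.eq.1 e)) _).symm
    rw [← mul_inv_cancel_left w w', comm_mul_left (e1 ▸ one_mem _), e1, mul_one]
  let f : W → Q →* Q := fun w => MonoidHom.mk' (fun z => ⁅(w : Q), z⁆) fun _ _ => comm_mul_right (h.central (hW _ w.2 _))
  have b := bl (fun (w : W) (z : Q) => ⁅(w : Q), z⁆) (fun c w => ⟨D.s c w, sW c _ w.2⟩) (fun c => D.s c) (fun c => D.s c)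
    (fun c x y => (map_commutatorElement _ _ _).symm) (fun c w z => by
      have := g.add c 1 (w : Q) w.2
      rw [(D.quot _ _).s1] at this
      exact (eq _ _ z this).trans (comm_mul_left (h.central (hW _ w.2 _))))
    (fun c w z => by simpa [D.s1, f] using h.hom_add (f w) (fun _ => h.sq _ (hW _ w.2 _)) c 1 z)
    (fun c w z => by simpa [D.s1] using h.add c 1 _ (hW _ w.2 z)) fun w z => h.sq _ (hW _ w.2 _)
  have b1 : ∀ u, ∀ w ∈ W, ∀ z, ⁅D.s (u * u) w, z⁆ = D.s u ⁅w, z⁆ := fun u w hw z => by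
    rw [D.sm, map_commutatorElement]; exact b u ⟨_, sW u w hw⟩ z
  have b2 : ∀ u, ∀ w ∈ W, ∀ z, ⁅w, D.s (u * u) z⁆ = D.s u ⁅w, z⁆ := fun u w hw z => by
    rw [D.sm, map_commutatorElement]; exact (b u ⟨w, hw⟩ _).symm
  have cs := g.comm_sq (fun x y => g.central (hq x y)) fun x y => g.sq _ (hq x y)
  have J : ∀ x y z : Q, ⁅⁅x, y⁆, z⁆ * (⁅⁅y, z⁆, x⁆ * ⁅⁅z, x⁆, y⁆) = 1 := fun x y z => by
    have c : ∀ w ∈ W, ∀ y z, ⁅w, y * z * y⁻¹⁆ = ⁅w, z⁆ := fun w hw y z => by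
      show f ⟨w, hw⟩ (y * z * y⁻¹) = f ⟨w, hw⟩ z
      rw [map_mul, map_mul, map_inv, mul_inv_eq_iff_eq_mul]
      exact mem_center_iff.1 (h.central (hW w hw z)) _
    rw [← hall_witt x y z, c _ (cW _ _), c _ (cW _ _), c _ (cW _ _)]
  rw [mem_center_iff]
  intro z
  have j := J (D.s (k * k * (k * k)) z) x y
  have j1 := congrArg (D.s k) (J z x y)
  have e1 := cs (k * k) 1 z x
  have e2 := cs 1 (k * k) y z
  simp only [mul_one, one_mul, (D.quot _ _).s1] at e1 e2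
  rw [eq ⁅D.s (k * k * (k * k)) z, x⁆ (D.s (k * k) ⁅z, x⁆) y e1, eq ⁅y, D.s (k * k * (k * k)) z⁆ (D.s (k * k) ⁅y, z⁆) x e2,
    b1 _ _ (cW _ _), b1 _ _ (cW _ _), b2 _ _ (cW _ _)] at j
  rw [map_mul, map_mul, map_one, ← j, mul_right_inj, mul_left_inj] at j1
  have := s_inv (D := D) hk ⁅⁅x, y⁆, z⁆
  rw [h.add _ _ _ (hW _ (cW _ _) _), j1, h.sq _ (inv_C.2 _ _ (hW _ (cW _ _) _)), map_one] at this
  exact (commutatorElement_eq_one_iff_mul_comm.1 this.symm).symm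

theorem comm_congr (hc : ∀ x y : Q, ⁅x, y⁆ ∈ center Q) (h2 : ∀ x y : Q, ⁅x, y⁆ * ⁅x, y⁆ = 1) {x x' y y' : Q}
    (e : (x : Q ⧸ Sq Q) = x') (e' : (y : Q ⧸ Sq Q) = y') : ⁅x, y⁆ = ⁅x', y'⁆ :=
  (hom_eq_of_Sq (MonoidHom.mk' (fun x => ⁅x, y⁆) fun _ _ => comm_mul_left (hc _ _)) (fun _ => h2 _ _) e).trans
    (hom_eq_of_Sq (MonoidHom.mk' (fun y => ⁅x', y⁆) fun _ _ => comm_mul_right (hc _ _)) (fun _ => h2 _ _) e')

theorem comm_two (h : Good D) (hc : ∀ x y : Q, ⁅x, y⁆ ∈ center Q) (h2 : ∀ x y : Q, ⁅x, y⁆ * ⁅x, y⁆ = 1) (u w u' w' : F) (x y : Q) :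
    ⁅D.s (u * u) x * D.s (w * w) y, D.s (u' * u') x * D.s (w' * w') y⁆ = D.s (u * w' + w * u') ⁅x, y⁆ := by
  rw [comm_mul_left (hc _ _), comm_mul_right (hc _ _), comm_mul_right (hc _ _), h.comm_sq hc h2, h.comm_sq hc h2,
    h.comm_sq hc h2, h.comm_sq hc h2, inv_comm h2 x y, h.add_central _ _ (hc _ _) (h2 _ _)]
  simp

theorem comm_mem_C (h : Good D) (hc : ∀ x y : Q, ⁅x, y⁆ ∈ center Q) (h2 : ∀ x y : Q, ⁅x, y⁆ * ⁅x, y⁆ = 1) (z z' : Q) :
    ⁅z, z'⁆ ∈ D.C := by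
  obtain ⟨x, y, hg⟩ := (h.quot _ (inv_Sq D)).two_gen quot_Sq_sq
  obtain ⟨x, rfl⟩ := QuotientGroup.mk_surjective x
  obtain ⟨y, rfl⟩ := QuotientGroup.mk_surjective y
  have key : ∀ z z' : Q, ∃ e, ⁅z, z'⁆ = D.s e ⁅x, y⁆ := fun z z' => by
    obtain ⟨c, d, e⟩ := hg z
    obtain ⟨c', d', e'⟩ := hg z'
    obtain ⟨u, rfl⟩ := exists_sqrt c
    obtain ⟨w, rfl⟩ := exists_sqrt d
    obtain ⟨u', rfl⟩ := exists_sqrt c'
    obtain ⟨w', rfl⟩ := exists_sqrt d'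
    exact ⟨_, (comm_congr hc h2 e e').trans (h.comm_two hc h2 u w u' w' x y)⟩
  let L : Subgroup Q :=
    { carrier := Set.range fun e => D.s e ⁅x, y⁆
      one_mem' := ⟨0, D.s0 _⟩
      mul_mem' := by rintro _ _ ⟨c, rfl⟩ ⟨d, rfl⟩; exact ⟨c + d, h.add_central _ _ (hc _ _) (h2 _ _)⟩
      inv_mem' := by rintro _ ⟨c, rfl⟩; exact ⟨c, eq_inv_of_mul_eq_one_left (by rw [← map_mul, h2, map_one])⟩ }
  obtain ⟨e, he⟩ := key z z'
  rw [he]
  refine inv_C.2 _ _ ?_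
  by_cases h0 : L = ⊥
  · rw [← D.s1 ⁅x, y⁆, mem_bot.1 (h0 ▸ ⟨1, rfl⟩ : D.s 1 ⁅x, y⁆ ∈ (⊥ : Subgroup Q))]; exact one_mem _
  obtain ⟨_, ⟨c, rfl⟩, h1, h3⟩ := h.exists_fix (N := L) (by
    rintro _ ⟨c, rfl⟩
    obtain ⟨d, hd⟩ := key (D.a x) (D.a y)
    exact ⟨c * d, by simp only [D.sm, D.as, map_commutatorElement D.a, hd]⟩) h0
  rw [← s_inv (D := D) (c := c) (fun e => h1 (by simp only [e, D.s0])) ⁅x, y⁆]
  exact inv_C.2 _ _ h3

theorem comm_of_not_sq (h : Good D) (hc : ∀ x y : Q, ⁅x, y⁆ ∈ D.C) {x : Q} (hx : x * x ∉ D.C) (z z' : Q) : z * z' = z' * z := by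
  have := h.normal
  have g := h.quot _ (inv_Sq D)
  have le : D.C ≤ Sq Q := h.C_le (inv_Sq D) fun e => hx (by
    rw [mem_bot.1 (e ▸ subset_closure ⟨x, rfl⟩ : x * x ∈ (⊥ : Subgroup Q))]; exact one_mem _)
  have le2 := h.quotC.C_le (N := (Sq Q).map (QuotientGroup.mk' D.C)) ⟨by rintro _ ⟨y, hy, rfl⟩; exact ⟨_, map_mem_Sq D.a hy, rfl⟩,
    by rintro c _ ⟨y, hy, rfl⟩; exact ⟨_, map_mem_Sq (D.s c) hy, rfl⟩⟩ fun e => hx ((QuotientGroup.eq_one_iff _).1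
      (mem_bot.1 (e ▸ mem_map_of_mem _ (subset_closure ⟨x, rfl⟩))))
  have fx : ∀ y : Q ⧸ Sq Q, (D.quot _ (inv_Sq D)).a y = y := fun y => QuotientGroup.induction_on y fun y => by
    obtain ⟨w, hw, e⟩ := le2 (x := ((y * D.a y : Q) : Q ⧸ D.C)) (by
      rw [mem_C, quot_a, map_mul, D.aa, QuotientGroup.eq]
      simpa [commutatorElement_def, mul_assoc] using hc y⁻¹ (D.a y)⁻¹)
    have : y * D.a y ∈ Sq Q := by
      rw [← mul_inv_cancel_left w (y * D.a y)]; exact mul_mem hw (le (QuotientGroup.eq.1 e))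
    exact (eq_inv_of_mul_eq_one_right ((QuotientGroup.eq_one_iff _).2 this)).trans
      (inv_eq_of_mul_eq_one_right (quot_Sq_sq (y : Q ⧸ Sq Q)))
  have c1 := fun x y => h.central (hc x y)
  have c2 := fun x y => h.sq _ (hc x y)
  rw [← commutatorElement_eq_one_iff_mul_comm]
  by_cases e : (z : Q ⧸ Sq Q) = 1
  · rw [comm_congr c1 c2 (x' := 1) e rfl, commutatorElement_one_left]
  obtain ⟨c, e'⟩ := g.gen _ (z' : Q) (fx z) (fx _) e
  obtain ⟨u, rfl⟩ := exists_sqrt c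
  have := h.comm_sq c1 c2 1 u z z
  rw [mul_one, D.s1, commutatorElement_self, map_one] at this
  rw [comm_congr c1 c2 rfl e', this]

theorem struct {k : F} (hk : k * k + k ≠ 0) (n : ℕ) : ∀ {Q : Type u} [Group Q] [Finite Q] {D : Dat F Q}, Nat.card Q = n →
    Good D → (∀ x y : Q, x * y = y * x) ∨ ∀ x y : Q, ⁅x, y⁆ ∈ D.C ∧ x * x ∈ D.C := by
  induction n using Nat.strong_induction_on with | _ n ih => ?_
  intro Q _ _ D hn h
  rcases subsingleton_or_nontrivial Q with e | e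
  · exact Or.inl fun _ _ => Subsingleton.elim _ _
  have := h.normal
  have g := h.quotC
  have hc : ∀ x y : Q, ⁅x, y⁆ ∈ D.C := by
    by_contra! hab
    obtain ⟨x, y, hab⟩ := hab
    have n1 : ((⁅x, y⁆ : Q) : Q ⧸ D.C) ≠ 1 := mt (QuotientGroup.eq_one_iff _).1 hab
    rcases ih _ (hn ▸ h.card_lt) rfl g with e | e
    · exact n1 (commutatorElement_eq_one_iff_mul_comm.2 (e (x : Q ⧸ D.C) y))
    have c1 := h.class_two hk fun x y => (e x y).1
    refine hab (h.comm_mem_C c1 (fun z z' => ?_) x y)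
    obtain ⟨c, hc⟩ := g.gen _ _ (e x y).1 (e z z).2 n1
    have : z * z ∈ center Q := by
      rw [← mul_inv_cancel_right (z * z) ((z * z)⁻¹ * D.s c ⁅x, y⁆), mul_inv_cancel_left]
      exact mul_mem (inv_center.2 _ _ (c1 x y)) (inv_mem (h.central (QuotientGroup.eq.1 hc)))
    rw [← comm_mul_left (c1 _ _), commutatorElement_eq_one_iff_mul_comm, mem_center_iff.1 this]
  by_cases hs : ∀ x : Q, x * x ∈ D.C
  · exact Or.inr fun x y => ⟨hc x y, hs x⟩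
  · push Not at hs
    exact Or.inl (h.comm_of_not_sq hc hs.choose_spec)

theorem exists_model (h : Good D) {k : F} (hk : k * k + k ≠ 0) (hna : ¬ ∀ x y : Q, x * y = y * x) :
    ∃ (A B : F) (ψ : F × F × F ≃ Q), ∀ u w e u' w' e', ψ (u, w, e) * ψ (u', w', e') =
      ψ (u + u', w + w', e + e' + (A * u * u' + w * u' + B * w * w')) := by
  obtain hs := (struct hk _ rfl h).resolve_left hna
  have := h.normal
  have c1 := fun x y => h.central (hs x y).1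
  have c2 := fun x y => h.sq _ (hs x y).1
  have q2 : ∀ x : Q ⧸ D.C, x * x = 1 := fun x => QuotientGroup.induction_on x fun x => (QuotientGroup.eq_one_iff _).2 (hs x x).2
  obtain ⟨x, y, hg⟩ := h.quotC.two_gen q2
  obtain ⟨x, rfl⟩ := QuotientGroup.mk_surjective x
  obtain ⟨y, rfl⟩ := QuotientGroup.mk_surjective y
  have cz : ∀ z z', ∀ v ∈ D.C, ⁅z * v, z'⁆ = ⁅z, z'⁆ ∧ ⁅z', z * v⁆ = ⁅z', z⁆ := fun z z' v hv => by
    rw [comm_mul_left (c1 _ _), comm_mul_right (c1 _ _), commutatorElement_eq_one_iff_mul_comm.2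
      (mem_center_iff.1 (h.central hv) z'), commutatorElement_eq_one_iff_mul_comm.2 (mem_center_iff.1 (h.central hv) z').symm]
    simp
  have hg' : ∀ z : Q, ∃ u w, ∃ v ∈ D.C, z = D.s (u * u) x * D.s (w * w) y * v := fun z => by
    obtain ⟨c, d, e⟩ := hg z
    obtain ⟨u, rfl⟩ := exists_sqrt c
    obtain ⟨w, rfl⟩ := exists_sqrt d
    exact ⟨u, w, _, QuotientGroup.eq.1 e.symm, (mul_inv_cancel_left _ _).symm⟩
  have b1 : ⁅x, y⁆ ≠ 1 := fun e => hna fun z z' => by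
    obtain ⟨u, w, v, hv, rfl⟩ := hg' z
    obtain ⟨u', w', v', hv', rfl⟩ := hg' z'
    rw [← commutatorElement_eq_one_iff_mul_comm, (cz _ _ _ hv).1, (cz _ _ _ hv').2, h.comm_two c1 c2, e, map_one]
  have bC := (hs x y).1
  have sC : ∀ e, D.s e ⁅x, y⁆ ∈ D.C := fun e => inv_C.2 e _ bC
  have inj : ∀ e, D.s e ⁅x, y⁆ = 1 → e = 0 := fun e he => by
    by_contra n; exact b1 (by rw [← s_inv (D := D) n ⁅x, y⁆, he, map_one])
  have sq : ∀ z : Q, ∃ A, ∀ u u', D.s (u * u) z * D.s (u' * u') z = D.s ((u + u') * (u + u')) z * D.s (A * u * u') ⁅x, y⁆ := fun z => by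
    obtain ⟨A, hA⟩ := h.gen _ _ bC (hs z z).2 b1
    refine ⟨A, fun u u' => ?_⟩
    rw [← h.kap (u := u) (w := u') (x := z) (t := (D.s (u + u') z)⁻¹ * (D.s u z * D.s u' z)) (QuotientGroup.eq.1
      (h.hom_add (QuotientGroup.mk' D.C) (fun _ => q2 _) u u' z)) (mul_inv_cancel_left _ _).symm, mul_assoc (D.s (u * u) z),
      ← mul_assoc (D.s (u * u') z), ← map_mul, hA, ← D.sm, ← mem_center_iff.1 (h.central (sC _)), mul_assoc, mul_assoc,
      show u * u' * A = A * u * u' by ring, h.sq _ (sC _), mul_one]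
  obtain ⟨A, hA⟩ := sq x
  obtain ⟨B, hB⟩ := sq y
  let ψ : F × F × F → Q := fun p => D.s (p.1 * p.1) x * D.s (p.2.1 * p.2.1) y * D.s p.2.2 ⁅x, y⁆
  have mul : ∀ u w e u' w' e', ψ (u, w, e) * ψ (u', w', e') = ψ (u + u', w + w', e + e' + (A * u * u' + w * u' + B * w * w')) := by
    intro u w e u' w' e'
    have c : ∀ e z, z * D.s e ⁅x, y⁆ = D.s e ⁅x, y⁆ * z := fun e => mem_center_iff.1 (h.central (sC e))
    have sw : D.s (w * w) y * D.s (u' * u') x = D.s (w * u') ⁅x, y⁆ * (D.s (u' * u') x * D.s (w * w) y) := by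
      rw [← inv_comm c2 x y, ← h.comm_sq c1 c2, commutatorElement_def]; group
    simp only [ψ, h.add _ _ _ bC]
    calc _ = D.s (u * u) x * (D.s (w * w) y * D.s (u' * u') x) * D.s (w' * w') y * (D.s e ⁅x, y⁆ * D.s e' ⁅x, y⁆) := by
          rw [mul_assoc _ (D.s e ⁅x, y⁆), ← mul_assoc (D.s e ⁅x, y⁆), ← c e]; simp only [mul_assoc]
      _ = D.s (u * u) x * D.s (u' * u') x * (D.s (w * w) y * D.s (w' * w') y) * D.s (w * u') ⁅x, y⁆ *
          (D.s e ⁅x, y⁆ * D.s e' ⁅x, y⁆) := by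
          rw [sw, ← c, mul_assoc _ _ (D.s (w' * w') y), mul_assoc _ _ (D.s (w' * w') y), ← c]; simp only [mul_assoc]
      _ = _ := by
          rw [hA, hB, mul_assoc _ (D.s (A * u * u') _), ← c]
          simp only [mul_assoc, mul_right_inj, ← h.add _ _ _ bC]
          congr 2; ring
  refine ⟨A, B, Equiv.ofBijective ψ ⟨?_, fun z => ?_⟩, mul⟩
  · rintro ⟨u, w, e⟩ ⟨u', w', e'⟩ he
    have k1 := fun a b => congrArg (⁅·, D.s (a * a) x * D.s (b * b) y⁆) he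
    simp only [ψ, (cz _ _ _ (sC _)).1, h.comm_two c1 c2] at k1
    have k2 : ∀ c d, D.s c ⁅x, y⁆ = D.s d ⁅x, y⁆ → c = d := fun c d e => CharTwo.add_eq_zero.1 (inj _ (by
      rw [h.add _ _ _ bC, e, h.sq _ (sC _)]))
    obtain rfl : u = u' := by simpa using k2 _ _ (k1 0 1)
    obtain rfl : w = w' := by simpa using k2 _ _ (k1 1 0)
    rw [k2 e e' (mul_left_cancel he)]
  · obtain ⟨u, w, v, hv, rfl⟩ := hg' z
    obtain ⟨e, rfl⟩ := h.gen _ _ bC hv b1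
    exact ⟨(u, w, e), rfl⟩

end Good

end Cfsg.Agent.Elu.Sg
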