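import Cfsg.Agent.Elu.Sg2
import Cfsg.Agent.Elu.UBd1
import Cfsg.Agent.Mult.L34c
import Cfsg.Agent.S1141
import Cfsg.Agent.Perm.SchurField

/-! The groups with coordinates `F³` of `Good.exists_model` are Sylow 2-subgroups of `L₃(q)` or `U₃(q)` (`model_iso`); a
2-group with a commuting involution and Singer automorphism is `Good` (`exists_good`). -/

set_option autoImplicit false
set_option linter.unusedSectionVars false

namespace Cfsg.Agent.Elu.Sg
open Subgroup Matrix Cfsg Cfsg.Agent.Classical Cfsg.Agent.Mult Polynomial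
open scoped MatrixGroups IsMulCommutative

variable {F : Type} [Field F] [Fintype F] [CharP F 2] {Q : Type*} [Group Q] [Finite Q]

theorem exists_hom {G : Type*} [Group G] {β : F → F → F → F → F} (ψ : F × F × F ≃ Q)
    (h : ∀ u w e u' w' e', ψ (u, w, e) * ψ (u', w', e') = ψ (u + u', w + w', e + e' + β u w u' w')) (g : F → F → F → G)
    (hg : ∀ u w e u' w' e', g u w e * g u' w' e' = g (u + u') (w + w') (e + e' + β u w u' w'))
    (h1 : ∀ u w e, g u w e = 1 → u = 0 ∧ w = 0 ∧ e = 0) (h0 : β 0 0 0 0 = 0) : ∃ f : Q →* G, Function.Injective f := by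
  refine ⟨MonoidHom.mk' (fun z => g (ψ.symm z).1 (ψ.symm z).2.1 (ψ.symm z).2.2) (ψ.surjective.forall₂.2 ?_),
    (injective_iff_map_eq_one _).2 (ψ.surjective.forall.2 ?_)⟩
  · rintro ⟨u, w, e⟩ ⟨u', w', e'⟩
    simp only [h, Equiv.symm_apply_apply, hg]
  · rintro ⟨u, w, e⟩ he
    obtain ⟨rfl, rfl, rfl⟩ := h1 u w e (by simpa using he)
    have := h 0 0 0 0 0 0
    simp only [h0, add_zero] at this
    exact mul_eq_left.1 this

theorem suE_mul {K : Type*} [Field K] [Fintype K] {q n : ℕ} [Fact (Fintype.card K = q ^ 2)] {v z z' z'' : Fin n → K} {μ μ' μ'' : K}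
    {hv hz hμ hz' hμ' hz'' hμ''} (e1 : z'' = z + z') (e2 : μ'' = μ + μ' + hermForm n K q z' z) :
    suE (q := q) v z μ hv hz hμ * suE v z' μ' hv hz' hμ' = suE v z'' μ'' hv hz'' hμ'' := by
  subst e1 e2
  refine su_ext fun x => ?_
  simp only [mul_smul, suE_smul, herm_add_left, herm_sub_left, herm_smul_left, herm_add_right, hv, hz',
    herm_eq_zero_comm.1 hz]
  module

theorem model_iso {n : ℕ} (hn : 2 ≤ n) (hF : Fintype.card F = 2 ^ n) {A B : F} (ψ : F × F × F ≃ Q)
    (h : ∀ u w e u' w' e', ψ (u, w, e) * ψ (u', w', e') = ψ (u + u', w + w', e + e' + (A * u * u' + w * u' + B * w * w'))) :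
    (∃ (K : Type) (_ : Field K) (_ : Fintype K), Fintype.card K = 4 ^ n ∧
        ∃ S : Sylow 2 (PSU 3 K (2 ^ n)), Nonempty (Q ≃* ↥(S : Subgroup (PSU 3 K (2 ^ n))))) ∨
      ∃ S : Sylow 2 PSL(3, F), Nonempty (Q ≃* ↥(S : Subgroup PSL(3, F))) := by
  have t2 : (2 : F) = 0 := CharTwo.two_eq_zero
  have cQ : Nat.card Q = (2 ^ n) ^ 3 := by
    rw [← Nat.card_congr ψ, Nat.card_prod, Nat.card_prod, Nat.card_eq_fintype_card, hF, pow_three]
  by_cases e : ∃ a b c d : F, a * c = A ∧ b * d = B ∧ a * d + b * c = 1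
  · obtain ⟨a, b, c, d, rfl, rfl, e⟩ := e
    obtain ⟨f, hf⟩ := exists_hom (G := l3U F) ψ h (fun u w e => ⟨l3u (a * u + b * w) (c * u + d * w) (e + a * d * u * w), _, _, _, rfl⟩)
      (fun u w x u' w' x' => Subtype.ext ((l3u_mul ..).trans (by
        congr 1
        · ring
        · ring
        · linear_combination (w * u') * e - (a * d * w * u') * t2))) (fun u w x k => by
        obtain ⟨h1, h2, h3⟩ := l3u_inj ((congrArg Subtype.val k).trans l3u_zero.symm)
        have hu : u = 0 := by linear_combination d * h1 + b * h2 - u * e - (b * d * w) * t2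
        have hw : w = 0 := by linear_combination c * h1 + a * h2 - w * e - (a * c * u) * t2
        exact ⟨hu, hw, by simpa [hu] using h3⟩) (by simp)
    obtain ⟨S, ⟨g⟩⟩ := l3_sylow (by omega) hF
    exact Or.inr ⟨S, ⟨(MulEquiv.ofBijective f (hf.bijective_of_nat_card_le (by rw [l3U_card, cQ, hF]))).trans g⟩⟩
  left
  have A0 : A ≠ 0 := fun h => e ⟨0, 1, 1, B, by simp [h]⟩
  have nr : ∀ d : F, A * d ^ 2 + d + B ≠ 0 := fun d h => e ⟨A, 1 + A * d, 1, d, mul_one _, by linear_combination h - B * t2,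
    by linear_combination (A * d) * t2⟩
  let P : F[X] := C A * X ^ 2 + C 1 * X + C B
  have dP : P.natDegree = 2 := natDegree_quadratic A0
  have : Fact (Irreducible P) := ⟨irreducible_of_degree_le_three_of_not_isRoot (by simp [dP]) fun x hx => nr x (by simpa [P] using hx)⟩
  let K := AdjoinRoot P
  have P0 : P ≠ 0 := this.out.ne_zero
  have : Module.Finite F K := (AdjoinRoot.powerBasis P0).finite
  have : Finite K := Module.finite_of_finite F
  let _ := Fintype.ofFinite K
  have hK : Fintype.card K = (2 ^ n) ^ 2 := by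
    rw [← Nat.card_eq_fintype_card, Module.natCard_eq_pow_finrank (K := F), (AdjoinRoot.powerBasis P0).finrank,
      AdjoinRoot.powerBasis_dim, dP, Nat.card_eq_fintype_card, hF]
  have := Fact.mk hK
  have : CharP K 2 := charP_of_injective_algebraMap (algebraMap F K).injective 2
  have k2 : (2 : K) = 0 := CharTwo.two_eq_zero
  obtain ⟨ι, hι⟩ : ∃ ι : F →+* K, ι = AdjoinRoot.of P := ⟨_, rfl⟩
  obtain ⟨θ, hθ⟩ : ∃ θ : K, θ = AdjoinRoot.root P := ⟨_, rfl⟩
  have iq : ∀ a, ι a ^ 2 ^ n = ι a := fun a => by rw [← map_pow, ← hF, FiniteField.pow_card]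
  have r1 : ι A * θ ^ 2 + θ + ι B = 0 := by simpa [P, hι, hθ] using AdjoinRoot.eval₂_root P
  have r2 : ι A * (θ ^ 2 ^ n) ^ 2 + θ ^ 2 ^ n + ι B = 0 := by
    have := congrArg (· ^ 2 ^ n) r1
    simpa only [add_pow_q (q := 2 ^ n), mul_pow, iq, zero_pow_q (q := 2 ^ n), pow_right_comm θ 2] using this
  have ne : θ ^ 2 ^ n - θ ≠ 0 := fun e => by
    obtain ⟨a, ha⟩ := exists_pow_q_ne (F := K) (q := 2 ^ n)
    refine ha (AdjoinRoot.induction_on P a fun p => p.induction_on' (fun p r hp hr => ?_) fun m a => ?_)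
    · rw [map_add, add_pow_q, hp, hr]
    · rw [← C_mul_X_pow_eq_monomial, map_mul, map_pow, AdjoinRoot.mk_C, AdjoinRoot.mk_X, ← hι, ← hθ, mul_pow, iq,
        pow_right_comm, sub_eq_zero.1 e]
  obtain ⟨η, hη⟩ : ∃ η, η = θ ^ 2 ^ n := ⟨_, rfl⟩
  rw [← hη] at r2 ne
  have tr : ι A * (θ + η) = 1 := mul_left_cancel₀ ne (by linear_combination r2 - r1 - (η - θ) * k2)
  have nm : ι A * (θ * η) = ι B := by linear_combination θ * tr - r1 + θ * k2
  have iA : ι A ≠ 0 := (map_ne_zero ι).2 A0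
  obtain ⟨v, v0, hv⟩ := exists_isotropic (F := K) (q := 2 ^ n) (n := 3) (by omega)
  obtain ⟨y, hy, hyv⟩ := exists_iso_partner v0 hv
  obtain ⟨z, hzv, -, hz⟩ := exists_noniso_perp_pair (by omega) hv hy hyv
  obtain ⟨c, hc⟩ := exists_norm_eq (F := K) (q := 2 ^ n) (c := ι A / hermForm 3 K (2 ^ n) z z) (by rw [div_pow, iq, herm_conj])
  rw [eq_div_iff hz] at hc
  have hh : ∀ s t : K, hermForm 3 K (2 ^ n) ((s * c) • z) ((t * c) • z) = ι A * (s * t ^ 2 ^ n) := fun s t => by
    rw [herm_smul_left, herm_smul_right, mul_pow, ← hc]; ring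
  have cj' : ∀ u w, (ι u + θ * ι w) ^ 2 ^ n = ι u + η * ι w := fun u w => by rw [add_pow_q, mul_pow, iq, iq, hη]
  obtain ⟨f, hf⟩ := exists_hom (G := SU 3 K (2 ^ n)) ψ h (fun u w e => suE v (((ι u + θ * ι w) * c) • z)
      (ι e + ι A * θ * (ι u * ι w + ι A * (ι u * ι u) + ι B * (ι w * ι w))) hv (by rw [herm_smul_left, hzv, mul_zero]) (by
        simp only [hh, cj', add_pow_q (q := 2 ^ n), mul_pow, iq, ← hη]
        linear_combination (ι A * ι u ^ 2 + ι B * ι w ^ 2) * tr - ι w ^ 2 * nm + ι e * k2))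
    (fun u w x u' w' x' => suE_mul (by simp only [map_add]; module) (by
      simp only [hh, cj', map_add, map_mul]
      linear_combination -(ι w * ι u') * tr - (ι w * ι w') * nm + (ι A * θ * (ι w * ι u' + ι A * ι u * ι u' + ι B * ι w * ι w')) * k2))
    (fun u w x k => by
      have k1 := congrArg (· • y) k
      simp only [suE_smul, hyv, one_smul, mul_one, add_sub_assoc, add_eq_left, sub_eq_zero] at k1
      have k3 := congrArg (hermForm 3 K (2 ^ n) · (((ι u + θ * ι w) * c) • z)) k1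
      simp only [hh] at k3
      rw [herm_smul_left, herm_smul_right _ v, herm_eq_zero_comm.1 hzv, mul_zero, mul_zero, eq_comm, mul_eq_zero, mul_eq_zero,
        pow_q_eq_zero, or_self] at k3
      have k4 := k3.resolve_left iA
      have hw : w = 0 := by
        by_contra hw
        refine nr (u / w) (ι.injective ?_)
        have := (map_ne_zero ι).2 hw
        have e : θ = ι (u / w) := by rw [map_div₀, eq_div_iff this]; linear_combination k4 - ι u * k2
        rw [map_zero, ← r1, e]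
        simp
      have hu : u = 0 := by simpa [hw] using k4
      refine ⟨hu, hw, ?_⟩
      simpa [hu, hw, v0] using k1) (by simp)
  have h2 : IsPGroup 2 Q := IsPGroup.of_card (cQ.trans (pow_mul _ _ _).symm)
  let g := (QuotientGroup.mk' (center (SU 3 K (2 ^ n)))).comp f
  have hg : Function.Injective g := (injective_iff_map_eq_one _).2 fun x hx => by
    obtain ⟨a, ha⟩ := (mem_center_SU_iff (by omega)).1 ((QuotientGroup.eq_one_iff _).1 hx)
    obtain ⟨j, hj⟩ := h2 x
    have h4 : a = 1 := UBd.eq_one_of_pow (p := 2) (k := j) (by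
      have : (f x).1.1 ^ 2 ^ j = 1 := by
        simpa using congrArg (fun t : SU 3 K (2 ^ n) => t.1.1) ((map_pow f x _).symm.trans ((congrArg f hj).trans (map_one f)))
      rw [ha, _root_.smul_pow, one_pow] at this
      simpa using congrFun (congrFun this 0) 0)
    exact hf ((Subtype.ext (Subtype.ext (by rw [ha, h4, one_smul]; rfl))).trans (map_one f).symm)
  obtain ⟨S, hS⟩ := (h2.of_equiv (MonoidHom.ofInjective hg)).exists_le_sylow
  refine ⟨K, inferInstance, inferInstance, by rw [hK, ← pow_mul, mul_comm, pow_mul]; rfl, S,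
    ⟨(MonoidHom.ofInjective hg).trans (MulEquiv.subgroupCongr (eq_of_le_of_card_ge hS ?_))⟩⟩
  rw [← Nat.card_congr (MonoidHom.ofInjective hg).toEquiv, cQ]
  exact (S1141.result hn hK S).1.le

theorem exists_good (hQ : IsPGroup 2 Q) {n : ℕ} (hn : 1 ≤ n) (α ρ : MulAut Q) (hα : α * α = 1) (hρ : ρ ^ (2 ^ n - 1) = 1)
    (hc : Commute α ρ) (C : Subgroup Q) (hC : ∀ x : Q, x ∈ C ↔ α x = x) [IsMulCommutative C] (h2 : ∀ x ∈ C, x ^ 2 = 1)
    (cC : Nat.card C = 2 ^ n) (htr : ∀ x y : Q, x ∈ C → y ∈ C → x ≠ 1 → y ≠ 1 → ∃ k : ℕ, (ρ ^ k) x = y) :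
    ∃ (K : Type) (_ : Field K) (_ : Fintype K) (D : Dat K Q), Fintype.card K = 2 ^ n ∧ Good D ∧ D.C = C := by
  classical
  have cm : ∀ k x, α ((ρ ^ k) x) = (ρ ^ k) (α x) := fun k x => DFunLike.congr_fun (hc.pow_right k).eq x
  have hρC : ∀ k, ∀ x ∈ C, (ρ ^ k) x ∈ C := fun k x hx => (hC _).2 (by rw [cm, (hC x).1 hx])
  let r : ℕ → AddMonoid.End (Additive C) := fun k => MonoidHom.toAdditive
    (((ρ ^ k).toMonoidHom.comp C.subtype).codRestrict C fun x => hρC k x x.2)
  obtain ⟨v, hv⟩ : ∃ v : C, v ≠ 1 := by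
    have : Nontrivial C := Finite.one_lt_card_iff_nontrivial.1 (cC ▸ Nat.one_lt_two_pow (by omega))
    exact exists_ne 1
  obtain ⟨K, _, _, e, -, he⟩ := Perm.exists_field_of_irreducible (V := Additive C) {r 1} (by simp) (fun U hU => by
    refine or_iff_not_imp_left.2 fun h0 => eq_top_iff.2 fun y _ => ?_
    obtain ⟨x, hx, x0⟩ := (U.bot_or_exists_ne_zero).resolve_left h0
    by_cases y0 : y = 0
    · exact y0 ▸ U.zero_mem
    obtain ⟨k, hk⟩ := htr x.toMul y.toMul x.toMul.2 y.toMul.2 (fun h => x0 (Subtype.ext h)) fun h => y0 (Subtype.ext h)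
    have : ∀ k, r k x ∈ U := fun k => by
      induction k with
      | zero => exact hx
      | succ k ih => exact (Subtype.ext (show (ρ ^ 1) ((ρ ^ k) _) = (ρ ^ (k + 1)) _ by
          rw [pow_one, pow_succ']; rfl) : r 1 (r k x) = r (k + 1) x) ▸ hU _ rfl _ ih
    exact (Subtype.ext hk : r k x = y) ▸ this k) (v := Additive.ofMul v) hv
  obtain ⟨l, hl⟩ := he (r 1) (by simp)
  let τ : K → Q := fun x => (e x).toMul
  have t1 : ∀ k x, (ρ ^ k) (τ x) = τ (l ^ k * x) := fun k x => by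
    induction k with
    | zero => simp
    | succ k ih => rw [pow_succ', MulAut.mul_apply, ih, pow_succ', mul_assoc]; exact congrArg Subtype.val (hl _)
  have ti : Function.Injective τ := fun x y h => e.injective (Subtype.ext h)
  have t0 : τ 0 = 1 := by simp [τ]
  have ta : ∀ x y, τ (x + y) = τ x * τ y := fun x y => by simp [τ]
  have ts : ∀ x ∈ C, ∃ a, τ a = x := fun x hx => ⟨e.symm (Additive.ofMul ⟨x, hx⟩), by simp [τ]⟩
  have cK : Nat.card K = 2 ^ n := (Nat.card_congr e.toEquiv).trans cC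
  have hlog : ∀ c : K, ∃ k, c ≠ 0 → l ^ k = c := fun c => by
    by_cases c0 : c = 0
    · exact ⟨0, fun h => absurd c0 h⟩
    obtain ⟨k, hk⟩ := htr (τ 1) (τ c) (e 1).toMul.2 (e c).toMul.2 (fun h => one_ne_zero (ti (h.trans t0.symm)))
      fun h => c0 (ti (h.trans t0.symm))
    exact ⟨k, fun _ => by simpa using ti ((t1 k 1).symm.trans hk)⟩
  choose lg hlg using hlog
  have l0 : l ≠ 0 := fun h => one_ne_zero (ti (ρ.injective (by simpa [h, t0] using t1 1 1)))
  have key : ∀ i j, l ^ i = l ^ j → ρ ^ i = ρ ^ j := fun i j h => by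
    have o : orderOf (Units.mk0 l l0) = 2 ^ n - 1 := by
      rw [orderOf_eq_card_of_forall_mem_powers fun x : Kˣ => ⟨lg x, Units.ext (by simpa using hlg x x.ne_zero)⟩, Nat.card_units, cK]
    have := pow_eq_pow_iff_modEq.1 (Units.ext (by simpa using h) : Units.mk0 l l0 ^ i = Units.mk0 l l0 ^ j)
    exact pow_eq_pow_iff_modEq.2 (this.of_dvd (o ▸ orderOf_dvd_of_pow_eq_one hρ))
  let D : Dat K Q :=
    { a := α.toMonoidHom
      s := fun c => if c = 0 then 1 else (ρ ^ lg c).toMonoidHom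
      aa := fun x => DFunLike.congr_fun hα x
      as := fun c x => by split_ifs <;> simp [cm]
      s0 := fun x => by simp
      s1 := fun x => by simp [key (lg 1) 0 (by simp [hlg])]
      sm := fun c d x => by
        by_cases c0 : c = 0
        · simp [c0]
        by_cases d0 : d = 0
        · simp [d0]
        simp [c0, d0, key (lg (c * d)) (lg c + lg d) (by rw [pow_add, hlg c c0, hlg d d0, hlg _ (mul_ne_zero c0 d0)]), pow_add] }
  have st : ∀ c x, D.s c (τ x) = τ (c * x) := fun c x => by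
    by_cases c0 : c = 0
    · simp [D, c0, t0]
    · simp [D, c0, t1, hlg c c0]
  refine ⟨K, inferInstance, inferInstance, D, Nat.card_eq_fintype_card.symm.trans cK, ⟨hQ, fun x hx => ?_, fun c d x hx => ?_,
    fun x y hx hy x1 => ?_⟩, Subgroup.ext fun x => (hC x).symm⟩
  · rw [← sq]; exact h2 x ((hC x).2 hx)
  · obtain ⟨a, rfl⟩ := ts x ((hC x).2 hx)
    rw [st, st, st, add_mul, ta]
  · obtain ⟨a, rfl⟩ := ts x ((hC x).2 hx)
    obtain ⟨b, rfl⟩ := ts y ((hC y).2 hy)
    exact ⟨b / a, by rw [st, div_mul_cancel₀ _ fun h => x1 (by rw [h, t0])]⟩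

end Cfsg.Agent.Elu.Sg
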