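import Cfsg.Agent.Elu.Sg3

/-! Abelian `Good` 2-groups over the field with four elements are elementary abelian of order 16 or homocyclic of rank two
(`Good.abelian_four`). -/

set_option autoImplicit false
set_option linter.unusedSectionVars false

namespace Cfsg.Agent.Elu.Sg
open Subgroup Dat

variable {F : Type*} [Field F] [Fintype F] [CharP F 2] {Q : Type*} [CommGroup Q] [Finite Q] {D : Dat F Q}

theorem exists_omega (hF : Fintype.card F = 4) : ∃ w : F, w ≠ 0 ∧ w + 1 ≠ 0 ∧ ∀ c : F, c = 0 ∨ c = 1 ∨ c = w ∨ c = w + 1 := by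
  classical
  obtain ⟨w, -, hw⟩ := Finset.exists_mem_notMem_of_card_lt_card (s := ({0, 1} : Finset F)) (t := Finset.univ)
    (Finset.card_le_two.trans_lt (by simp [hF]))
  simp only [Finset.mem_insert, Finset.mem_singleton, not_or] at hw
  have h1 : w + 1 ≠ 0 := fun e => hw.2 (CharTwo.add_eq_zero.1 e)
  refine ⟨w, hw.1, h1, fun c => ?_⟩
  have : ({0, 1, w, w + 1} : Finset F) = Finset.univ := Finset.eq_univ_of_card _ (by
    rw [hF, Finset.card_insert_of_notMem (by simp [Ne.symm hw.1, h1.symm]), Finset.card_insert_of_notMem (by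
      simp [Ne.symm hw.2, hw.1]), Finset.card_pair (by simp)])
  have := this.ge (Finset.mem_univ c)
  simpa using this

theorem Good.abelian_four (h : Good D) (hF : Fintype.card F = 4) (hC : Nat.card D.C = 4) :
    (Nat.card Q = 16 ∧ ∀ x : Q, x ^ 2 = 1) ∨
      ∃ n : ℕ, 1 ≤ n ∧ Nonempty (Q ≃* Multiplicative (ZMod (2 ^ n)) × Multiplicative (ZMod (2 ^ n))) := by
  have f : ∀ x, x * D.a x ∈ D.C := fun x => by rw [mem_C, map_mul, D.aa, mul_comm]
  by_cases fx : ∀ y : Q, y * D.a y ∈ Sq Q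
  · right
    obtain ⟨w, w0, w1, hw⟩ := exists_omega hF
    have g := h.quot _ (inv_Sq D)
    have fx' : ∀ y : Q ⧸ Sq Q, (D.quot _ (inv_Sq D)).a y = y := fun y => QuotientGroup.induction_on y fun y =>
      (eq_inv_of_mul_eq_one_right ((QuotientGroup.eq_one_iff _).2 (fx y))).trans
        (inv_eq_of_mul_eq_one_right (quot_Sq_sq (y : Q ⧸ Sq Q)))
    have sq : ∀ y ∈ Sq Q, ∃ z, y = z * z := fun y hy => by
      induction hy using closure_induction with
      | mem _ h => exact h.imp fun _ e => e.symm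
      | one => exact ⟨1, (mul_one _).symm⟩
      | mul _ _ _ _ a b => obtain ⟨a, rfl⟩ := a; obtain ⟨b, rfl⟩ := b; exact ⟨a * b, mul_mul_mul_comm _ _ _ _⟩
      | inv _ _ a => obtain ⟨a, rfl⟩ := a; exact ⟨a⁻¹, mul_inv _ _⟩
    have top : ∀ H : Subgroup Q, (∀ y, ∃ u ∈ H, (u : Q ⧸ Sq Q) = y) → H = ⊤ := fun H hH => by
      have : ∀ k y, ∃ u ∈ H, ∃ z, y = u * z ^ 2 ^ k := fun k => by
        induction k with
        | zero => exact fun y => ⟨1, one_mem _, y, by simp⟩
        | succ k ih =>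
          intro y
          obtain ⟨u, hu, z, rfl⟩ := ih y
          obtain ⟨v, hv, e⟩ := hH z
          obtain ⟨t, ht⟩ := sq _ (QuotientGroup.eq.1 e)
          exact ⟨u * v ^ 2 ^ k, mul_mem hu (pow_mem hv _), t, by
            rw [pow_succ', pow_mul, pow_two, ← ht, mul_assoc, ← mul_pow, mul_inv_cancel_left]⟩
      obtain ⟨k, hk⟩ := h.two.exists_card_eq
      refine eq_top_iff.2 fun y _ => ?_
      obtain ⟨u, hu, z, rfl⟩ := this k y
      rwa [← hk, pow_card_eq_one', mul_one]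
    obtain ⟨x, hx⟩ : ∃ x : Q, (x : Q ⧸ Sq Q) ≠ 1 := by
      by_contra! e
      have := top ⊥ fun y => QuotientGroup.induction_on y fun y => ⟨1, one_mem _, (e y).symm⟩
      have := card_le_of_le (le_top.trans this.ge : D.C ≤ ⊥)
      rw [hC, card_bot] at this; omega
    obtain ⟨n, hn⟩ := h.two.exists_orderOf_eq_pow x
    have n0 : n ≠ 0 := by rintro rfl; exact hx (by rw [orderOf_eq_one_iff.1 hn]; rfl)
    have si : Function.Injective (D.s w) := Function.LeftInverse.injective (s_inv w0)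
    have hn' : orderOf (D.s w x) = 2 ^ n := (orderOf_injective _ si x).trans hn
    have t1 : zpowers x ⊔ zpowers (D.s w x) = ⊤ := top _ fun y => by
      obtain ⟨c, rfl⟩ := g.gen _ y (fx' x) (fx' y) hx
      rcases hw c with e | e | e | e <;> rw [e]
      · exact ⟨1, one_mem _, ((D.quot _ _).s0 _).symm⟩
      · exact ⟨x, mem_sup_left (mem_zpowers _), ((D.quot _ _).s1 _).symm⟩
      · exact ⟨_, mem_sup_right (mem_zpowers _), rfl⟩
      · refine ⟨D.s w x * x, mul_mem (mem_sup_right (mem_zpowers _)) (mem_sup_left (mem_zpowers _)), ?_⟩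
        rw [g.add _ _ _ (fx' x), (D.quot _ _).s1]; rfl
    have t2 : Disjoint (zpowers x) (zpowers (D.s w x)) := by
      rw [disjoint_iff]
      by_contra e
      obtain ⟨t, ⟨⟨i, rfl⟩, j, hj⟩, t1, t2⟩ : ∃ t ∈ zpowers x ⊓ zpowers (D.s w x), t ≠ 1 ∧ t * t = 1 := by
        obtain ⟨t, ht⟩ := exists_prime_orderOf_dvd_card' (G := ↥(zpowers x ⊓ zpowers (D.s w x))) 2
          ((h.two.to_subgroup _).card_eq_or_dvd.resolve_left (mt card_eq_one.1 e))
        exact ⟨t, t.2, fun k => by rw [show t = 1 from Subtype.ext k] at ht; simp at ht, by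
          rw [← pow_two]; exact congrArg Subtype.val (ht ▸ pow_orderOf_eq_one t)⟩
      simp only [← map_zpow] at hj t1 t2
      have u2 : x ^ j * x ^ j = 1 := si (by rw [map_mul, hj, t2, map_one])
      have u1 : x ^ j ≠ 1 := fun k => t1 (by rw [← hj, k, map_one])
      have e1 : x ^ i = x ^ j := by
        have key : ∀ i : ℤ, x ^ i * x ^ i = 1 → x ^ i ≠ 1 → x ^ i = x ^ (2 ^ (n - 1) : ℤ) := fun i a b => by
          rw [← zpow_add, ← orderOf_dvd_iff_zpow_eq_one, hn, ← two_mul] at a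
          rw [Ne, ← orderOf_dvd_iff_zpow_eq_one, hn] at b
          obtain ⟨m, rfl⟩ := Nat.exists_eq_succ_of_ne_zero n0
          push_cast at a b ⊢
          rw [pow_succ'] at a b
          obtain ⟨k, rfl⟩ := Int.dvd_of_mul_dvd_mul_left two_ne_zero a
          obtain ⟨l, rfl | rfl⟩ := Int.even_or_odd' k
          · exact absurd ⟨l, by ring⟩ b
          · rw [zpow_eq_zpow_iff_modEq, hn]
            exact Int.modEq_iff_dvd.2 ⟨-l, by push_cast; rw [pow_succ]; ring⟩
        rw [key i t2 t1, key j u2 u1]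
      have := s_inv (D := D) w1 (x ^ j)
      rw [h.add_central _ _ (mem_center_iff.2 fun _ => mul_comm _ _) u2, hj, D.s1, e1, u2, map_one] at this
      exact u1 this.symm
    have c : ∀ y : Q, orderOf y = 2 ^ n → Nonempty (zpowers y ≃* Multiplicative (ZMod (2 ^ n))) := fun y hy =>
      ⟨mulEquivOfCyclicCardEq (by simp [hy])⟩
    exact ⟨n, Nat.one_le_iff_ne_zero.2 n0, ⟨(MulEquiv.ofBijective ((zpowers x).subtype.coprod (zpowers (D.s w x)).subtype)
      ⟨mul_injective_of_disjoint t2, fun y => by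
        obtain ⟨a, ha, b, hb, rfl⟩ := mem_sup.1 (t1 ▸ mem_top y)
        exact ⟨(⟨a, ha⟩, ⟨b, hb⟩), rfl⟩⟩).symm.trans ((c _ hn).some.prodCongr (c _ hn').some)⟩⟩
  left
  have hs : ∀ x : Q, x * x = 1 := fun x => by
    by_contra e
    exact fx fun y => h.C_le (inv_Sq D) (fun k => e (mem_bot.1 (k ▸ subset_closure ⟨x, rfl⟩))) (f y)
  let δ : Q →* Q := MonoidHom.id Q * D.a
  have k1 : δ.ker = D.C := Subgroup.ext fun x => ⟨fun e => (eq_inv_of_mul_eq_one_right e).trans
    (inv_eq_of_mul_eq_one_right (hs x)), fun e => (congrArg (x * ·) e).trans (hs x)⟩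
  have k2 : δ.range = D.C := le_antisymm (by rintro _ ⟨x, rfl⟩; exact f x) (h.C_le
    ⟨by rintro _ ⟨x, rfl⟩; exact ⟨D.a x, by simp [δ]⟩, by
      rintro c _ ⟨x, rfl⟩; exact ⟨D.s c x, by simp [δ, D.as]⟩⟩ fun e => fx fun y => by
      rw [show y * D.a y = 1 from mem_bot.1 (e ▸ ⟨y, rfl⟩)]; exact one_mem _)
  refine ⟨?_, fun x => (pow_two x).trans (hs x)⟩
  rw [← δ.ker.card_mul_index, index_ker, k1, k2, hC]

end Cfsg.Agent.Elu.Sg
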