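import Cfsg.Agent.Gen.MinAct
import Cfsg.Agent.Transfer.Frobenius
import Cfsg.Agent.FG.ExtPrim
import Cfsg.Agent.Perm.SchurField

/-! Minimal non-`p`-nilpotent groups, part 1: the configuration `Amb p q r P y` (a `p`-group `P` on which
an element `y` of order `q ^ r` acts minimally non-trivially), `Amb.mn'` (such `P ⟨y⟩` is minimal
non-`p`-nilpotent) and the converse `exists_amb`. -/

set_option autoImplicit false

namespace Cfsg.Agent.Elu.Sm

open Subgroup Cfsg.Agent.Transfer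

/-- minimal non-`p`-nilpotent -/
def MN (p : ℕ) (X : Type*) [Group X] : Prop :=
  ¬ HasNormalPComplement p X ∧ ∀ K : Subgroup X, K ≠ ⊤ → HasNormalPComplement p K

structure Amb (p q r : ℕ) {X : Type*} [Group X] (P : Subgroup X) (y : X) : Prop where
  pg : IsPGroup p P
  ord : orderOf y = q ^ r
  nm : ∀ u ∈ P, y * u * y⁻¹ ∈ P
  nt : ∃ u ∈ P, y * u ≠ u * y
  ce : ∀ u ∈ P, y ^ q * u = u * y ^ q
  mn : ∀ U < P, (∀ u ∈ U, y * u * y⁻¹ ∈ U) → ∀ u ∈ U, y * u = u * y

variable {p q r : ℕ} {X : Type*} [Group X] [Finite X] {P : Subgroup X} {y : X}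

theorem MN.congr [Fact p.Prime] {X' : Type*} [Group X'] (h : MN p X) (e : X ≃* X') : MN p X' := by
  haveI : Finite X' := Finite.of_equiv _ e.toEquiv
  refine ⟨fun h' => h.1 (hasNormalPComplement_of_mulEquiv h' e.symm), fun K hK => ?_⟩
  have h1 : K.comap e.toMonoidHom ≠ ⊤ := fun h1 => hK (eq_top_iff.2 fun x _ => by
    have : e.symm x ∈ K.comap e.toMonoidHom := h1 ▸ mem_top _
    simpa using this)
  have := hasNormalPComplement_map (h.2 _ h1) e.toMonoidHom
  rwa [map_comap_eq_self_of_surjective e.surjective] at this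

theorem conj_zpow_mem {U : Subgroup X} (h : ∀ u ∈ U, y * u * y⁻¹ ∈ U) {g : X} (hg : g ∈ zpowers y) :
    g ∈ normalizer (U : Set X) :=
  (zpowers_le.2 (mem_normalizer_fintype h) : zpowers y ≤ _) hg

theorem coprime_pq [Fact p.Prime] [Fact q.Prime] (hpq : p ≠ q) (i j : ℕ) : (p ^ i).Coprime (q ^ j) :=
  Nat.Coprime.pow _ _ ((Nat.coprime_primes Fact.out Fact.out).2 hpq)

namespace Amb
variable [hp : Fact p.Prime] [hq : Fact q.Prime]

omit hp hq in
theorem normal (h : Amb p q r P y) (ht : P ⊔ zpowers y = ⊤) : P.Normal :=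
  normalizer_eq_top_iff.1 (eq_top_iff.2 (ht ▸ sup_le le_normalizer fun _ hg => conj_zpow_mem h.nm hg))

theorem inf_bot (hpq : p ≠ q) (h : Amb p q r P y) : P ⊓ zpowers y = ⊥ := by
  obtain ⟨t, ht⟩ := IsPGroup.iff_card.1 h.pg
  exact inf_eq_bot_of_coprime (by rw [ht, Nat.card_zpowers, h.ord]; exact coprime_pq hpq _ _)

theorem card (hpq : p ≠ q) (h : Amb p q r P y) (ht : P ⊔ zpowers y = ⊤) :
    Nat.card X = Nat.card P * q ^ r := by
  haveI := h.normal ht
  have : P.IsComplement' (zpowers y) := isComplement'_of_disjoint_and_mul_eq_univ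
    (disjoint_iff.2 (h.inf_bot hpq)) (by rw [← normal_mul, ht]; rfl)
  rw [← this.card_mul, Nat.card_zpowers, h.ord]

omit hp hq in
theorem decomp (h : Amb p q r P y) (ht : P ⊔ zpowers y = ⊤) (g : X) :
    ∃ w ∈ P, ∃ m : ℕ, g = w * y ^ m := by
  haveI := h.normal ht
  have : g ∈ ((P ⊔ zpowers y : Subgroup X) : Set X) := ht ▸ mem_top g
  rw [normal_mul] at this
  obtain ⟨w, hw, z, hz, rfl⟩ := this
  obtain ⟨m, rfl⟩ := mem_powers_iff_mem_zpowers.2 hz
  exact ⟨w, hw, m, rfl⟩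

theorem mem_of_pg (hpq : p ≠ q) (h : Amb p q r P y) (ht : P ⊔ zpowers y = ⊤) {Q : Subgroup X}
    (hQ : IsPGroup p Q) : Q ≤ P := by
  haveI := h.normal ht
  intro g hg
  obtain ⟨k, hk⟩ := hQ ⟨g, hg⟩
  have hk : g ^ p ^ k = 1 := congrArg Subtype.val hk
  have h1 : P.index = q ^ r := by
    have := P.card_mul_index
    rw [h.card hpq ht] at this
    exact Nat.eq_of_mul_eq_mul_left Nat.card_pos this
  have h2 : (QuotientGroup.mk g : X ⧸ P) ^ p ^ k = 1 := by rw [← QuotientGroup.mk_pow, hk]; rfl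
  have h3 : (QuotientGroup.mk g : X ⧸ P) ^ q ^ r = 1 := by rw [← h1]; exact pow_card_eq_one'
  have h4 := orderOf_dvd_of_pow_eq_one h2
  have h5 := orderOf_dvd_of_pow_eq_one h3
  exact (QuotientGroup.eq_one_iff g).1 (orderOf_eq_one_iff.1
    (Nat.eq_one_of_dvd_coprimes (coprime_pq hpq k r) h4 h5))

theorem exists_conj (hpq : p ≠ q) (h : Amb p q r P y) (ht : P ⊔ zpowers y = ⊤) {g : X}
    (hg : (orderOf g).Coprime p) : ∃ w ∈ P, ∃ i : ℕ, g = w * y ^ i * w⁻¹ := by
  obtain ⟨t, hc⟩ := IsPGroup.iff_card.1 h.pg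
  have h1 := h.card hpq ht
  have h2 : IsPGroup q (zpowers g) := by
    have : orderOf g ∣ q ^ r := by
      have := orderOf_dvd_natCard g
      rw [h1, hc] at this
      exact (Nat.Coprime.pow_right t hg).dvd_of_dvd_mul_left this
    obtain ⟨k, -, hk⟩ := (Nat.dvd_prime_pow hq.out).1 this
    exact IsPGroup.of_card (by rw [Nat.card_zpowers, hk])
  let S : Sylow q X := Sylow.ofCard (zpowers y) (by
    rw [Nat.card_zpowers, h.ord, h1, hc, Nat.factorization_mul (pow_ne_zero _ hp.out.ne_zero)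
      (pow_ne_zero _ hq.out.ne_zero)]
    simp [hq.out.factorization, hp.out.factorization, hpq])
  obtain ⟨T, hT⟩ := h2.exists_le_sylow
  obtain ⟨c, hc'⟩ := MulAction.exists_smul_eq X S T
  have h3 : g ∈ ((c • S : Sylow q X) : Subgroup X) := hc' ▸ hT (mem_zpowers g)
  rw [Sylow.coe_subgroup_smul, mem_smul_pointwise_iff_exists] at h3
  obtain ⟨z, hz, rfl⟩ := h3
  obtain ⟨i, rfl⟩ := mem_powers_iff_mem_zpowers.2 (show z ∈ zpowers y from hz)
  obtain ⟨w, hw, m, rfl⟩ := h.decomp ht c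
  refine ⟨w, hw, i, ?_⟩
  simp only [MulAut.smul_def, MulAut.conj_apply]
  group

theorem mn' (hpq : p ≠ q) (h : Amb p q r P y) (ht : P ⊔ zpowers y = ⊤) : MN p X := by
  haveI := h.normal ht
  have hy : (orderOf y).Coprime p := by rw [h.ord]; simpa using (coprime_pq hpq 1 r).symm
  refine ⟨fun hn => ?_, fun H hH => hasNormalPComplement_of_forall_isPGroup fun Q hQ _ g _ hc => ?_⟩
  · obtain ⟨u, hu, hne⟩ := h.nt
    exact hne (mem_centralizer_of_hasNormalPComplement hn h.pg (mem_normalizer_fintype h.nm) hy u hu).symm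
  have hQP := h.mem_of_pg hpq ht (hQ.map H.subtype)
  obtain ⟨w, hw, i, e⟩ := h.exists_conj hpq ht (g := g) (by rwa [Subgroup.orderOf_coe])
  suffices ∀ u ∈ H, u ∈ P → (g : X) * u = u * g from fun u hu =>
    Subtype.ext (this u u.2 (hQP ⟨u, hu, rfl⟩)).symm
  intro u huH huP
  by_cases hi : q ∣ i
  · obtain ⟨j, rfl⟩ := hi
    have c : ∀ v ∈ P, y ^ (q * j) * v = v * y ^ (q * j) := fun v hv => by
      rw [pow_mul]; exact (Commute.pow_left (h.ce v hv) j).eq
    rw [e, ← c w hw, mul_inv_cancel_right, c u huP]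
  · have h1 : w * y * w⁻¹ ∈ H := by
      have hcop : i.Coprime (orderOf y) := by
        rw [h.ord]; exact Nat.Coprime.pow_right r ((Nat.Prime.coprime_iff_not_dvd hq.out).2 hi).symm
      obtain ⟨m, hm⟩ := exists_pow_eq_self_of_coprime hcop
      have := H.pow_mem g.2 m
      rwa [e, conj_pow, hm] at this
    let U : Subgroup X := (H ⊓ P).comap (MulAut.conj w).toMonoidHom
    have hU : ∀ v, v ∈ U ↔ w * v * w⁻¹ ∈ H ∧ v ∈ P := fun v =>
      and_congr_right fun _ => ⟨fun h' => by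
        have := ‹P.Normal›.conj_mem _ h' w⁻¹
        simpa [mul_assoc] using this, fun h' => ‹P.Normal›.conj_mem _ h' w⟩
    have h2 : U < P := by
      refine lt_of_le_of_ne (fun v hv => ((hU v).1 hv).2) fun e' => hH (eq_top_iff.2 ?_)
      have hP : P ≤ H := fun v hv => by
        have : w⁻¹ * v * w⁻¹⁻¹ ∈ U := e' ▸ ‹P.Normal›.conj_mem _ hv _
        simpa [mul_assoc] using ((hU _).1 this).1
      rw [← ht]
      refine sup_le hP (zpowers_le.2 ?_)
      simpa [mul_assoc] using H.mul_mem (H.mul_mem (H.inv_mem (hP hw)) h1) (hP hw)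
    have h3 := h.mn U h2 (fun v hv => (hU _).2 ⟨by
      have := H.mul_mem (H.mul_mem h1 ((hU v).1 hv).1) (H.inv_mem h1)
      simpa [mul_assoc] using this, h.nm v ((hU v).1 hv).2⟩) (w⁻¹ * u * w)
      ((hU _).2 ⟨by simpa [mul_assoc] using huH, by simpa using ‹P.Normal›.conj_mem _ huP w⁻¹⟩)
    have h4 := (Commute.pow_left (show Commute y _ from h3) i).eq
    rw [e]
    calc w * y ^ i * w⁻¹ * u = w * (y ^ i * (w⁻¹ * u * w)) * w⁻¹ := by group
      _ = _ := by rw [h4]; group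

omit hp in
theorem pow (h : Amb p q r P y) {k : ℕ} (hk : k.Coprime q) : Amb p q r P (y ^ k) := by
  have hcop : k.Coprime (orderOf y) := by rw [h.ord]; exact hk.pow_right r
  obtain ⟨m, hm⟩ := exists_pow_eq_self_of_coprime hcop
  refine ⟨h.pg, by rw [hcop.symm.orderOf_pow, h.ord], fun u hu =>
    (mem_normalizer_iff.1 (conj_zpow_mem h.nm (npow_mem_zpowers y k)) u).1 hu, ?_, fun u hu => ?_,
    fun U hU hU' u hu => ?_⟩
  · obtain ⟨u, hu, hne⟩ := h.nt
    exact ⟨u, hu, fun e => hne (by rw [← hm]; exact (Commute.pow_left e m).eq)⟩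
  · rw [← pow_mul, mul_comm k q, pow_mul]; exact (Commute.pow_left (h.ce u hu) k).eq
  · refine (Commute.pow_left (h.mn U hU (fun v hv => ?_) u hu) k).eq
    exact (mem_normalizer_iff.1 (conj_zpow_mem hU' (g := y) ⟨m, by simpa using hm⟩) v).1 hv

omit hp hq [Finite X] in
theorem sub (h : Amb p q r P y) :
    Amb p q r (P.subgroupOf (P ⊔ zpowers y)) ⟨y, mem_sup_right (mem_zpowers y)⟩ ∧
      P.subgroupOf (P ⊔ zpowers y) ⊔ zpowers ⟨y, mem_sup_right (mem_zpowers y)⟩ = ⊤ := by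
  refine ⟨⟨h.pg.comap_subtype, by rw [← h.ord, ← Subgroup.orderOf_coe], fun u hu => h.nm u hu, ?_,
    fun u hu => Subtype.ext (h.ce u hu), fun U hU hU' u hu => Subtype.ext ?_⟩, ?_⟩
  · obtain ⟨u, hu, hne⟩ := h.nt
    exact ⟨⟨u, mem_sup_left hu⟩, hu, fun e => hne (congrArg Subtype.val e)⟩
  · refine h.mn (U.map (Subgroup.subtype _)) ?_ ?_ u ⟨u, hu, rfl⟩
    · have := (map_subtype_lt_map_subtype).2 hU
      rwa [map_subgroupOf_eq_of_le le_sup_left] at this
    · rintro _ ⟨v, hv, rfl⟩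
      exact ⟨_, hU' v hv, rfl⟩
  · apply map_injective (Subgroup.subtype_injective _)
    rw [Subgroup.map_sup, map_subgroupOf_eq_of_le le_sup_left, MonoidHom.map_zpowers,
      ← MonoidHom.range_eq_map, range_subtype]
    rfl

end Amb

theorem exists_min {W : Subgroup X} (pg : IsPGroup p W) (ord : orderOf y = q ^ r)
    (nm : ∀ u ∈ W, y * u * y⁻¹ ∈ W) (nt : ∃ u ∈ W, y * u ≠ u * y)
    (ce : ∀ u ∈ W, y ^ q * u = u * y ^ q) : ∃ P ≤ W, Amb p q r P y := by
  obtain ⟨P, ⟨h1, h2, h3⟩, hmin⟩ := (wellFounded_lt (α := Subgroup X)).has_min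
    {U | U ≤ W ∧ (∀ u ∈ U, y * u * y⁻¹ ∈ U) ∧ ∃ u ∈ U, y * u ≠ u * y} ⟨W, le_rfl, nm, nt⟩
  refine ⟨P, h1, pg.to_le h1, ord, h2, h3, fun u hu => ce u (h1 hu), fun U hU hU' u hu => ?_⟩
  by_contra hne
  exact hmin U ⟨hU.le.trans h1, hU', u, hu, hne⟩ hU

theorem exists_amb [hp : Fact p.Prime] [hq : Fact q.Prime] (hpq : p ≠ q) (h : MN p X) {t : ℕ}
    (hc : Nat.card X = p ^ t * q ^ r) : ∃ (P : Subgroup X) (y : X), Amb p q r P y ∧ P ⊔ zpowers y = ⊤ := by
  have h1 := mt hasNormalPComplement_of_forall_isPGroup h.1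
  push Not at h1
  obtain ⟨Q, hQ, -, y, hy, hcop, hne⟩ := h1
  have nm : ∀ u ∈ Q, y * u * y⁻¹ ∈ Q := fun u hu => (mem_normalizer_iff.1 hy u).1 hu
  have key : ∀ (U : Subgroup X) (z : X), IsPGroup p U → (∀ u ∈ U, z * u * z⁻¹ ∈ U) →
      (orderOf z).Coprime p → U ⊔ zpowers z ≠ ⊤ → ∀ u ∈ U, z * u = u * z := by
    intro U z hU hz hc hne u hu
    have := mem_centralizer_of_hasNormalPComplement (h.2 _ hne) (Q := U.subgroupOf (U ⊔ zpowers z))
      hU.comap_subtype (g := ⟨z, mem_sup_right (mem_zpowers z)⟩)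
      (mem_normalizer_fintype fun v hv => hz v hv) (by rwa [← Subgroup.orderOf_coe])
      ⟨u, mem_sup_left hu⟩ hu
    exact (congrArg Subtype.val this).symm
  have ht : Q ⊔ zpowers y = ⊤ := by
    by_contra hn
    exact hne fun u hu => (key Q y hQ nm hcop hn u hu).symm
  haveI : Q.Normal :=
    normalizer_eq_top_iff.1 (eq_top_iff.2 (ht ▸ sup_le le_normalizer (zpowers_le.2 hy)))
  obtain ⟨s, hs⟩ := IsPGroup.iff_card.1 hQ
  have cardsup : ∀ (U : Subgroup X) (z : X), IsPGroup p U → (∀ u ∈ U, z * u * z⁻¹ ∈ U) →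
      (orderOf z).Coprime p → U ⊔ zpowers z = ⊤ → Nat.card X = Nat.card U * orderOf z := by
    intro U z hU hz hc ht
    haveI : U.Normal := normalizer_eq_top_iff.1 (eq_top_iff.2
      (ht ▸ sup_le le_normalizer fun _ hg => conj_zpow_mem hz hg))
    obtain ⟨s, hs⟩ := IsPGroup.iff_card.1 hU
    have : U.IsComplement' (zpowers z) := isComplement'_of_disjoint_and_mul_eq_univ
      (disjoint_iff.2 (inf_eq_bot_of_coprime (by
        rw [hs, Nat.card_zpowers]; exact (hc.pow_right s).symm))) (by rw [← normal_mul, ht]; rfl)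
    rw [← this.card_mul, Nat.card_zpowers]
  have h2 := cardsup Q y hQ nm hcop ht
  have ord : orderOf y = q ^ r := by
    rw [hc, hs] at h2
    apply Nat.dvd_antisymm
    · exact (hcop.pow_right t).dvd_of_dvd_mul_left (h2 ▸ Dvd.intro_left _ rfl)
    · exact (coprime_pq hpq s r).symm.dvd_of_dvd_mul_left (h2 ▸ Dvd.intro_left _ rfl)
  refine ⟨Q, y, ⟨hQ, ord, nm, ?_, ?_, fun U hU hU' => key U y (hQ.to_le hU.le) hU' hcop fun e => ?_⟩, ht⟩
  · by_contra hn
    push Not at hn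
    exact hne fun u hu => (hn u hu).symm
  · have nm' : ∀ u ∈ Q, y ^ q * u * (y ^ q)⁻¹ ∈ Q := fun u hu => ‹Q.Normal›.conj_mem u hu _
    have hcop' : (orderOf (y ^ q)).Coprime p := hcop.coprime_dvd_left (orderOf_pow_dvd q)
    refine key Q _ hQ nm' hcop' fun e => ?_
    have h3 := cardsup Q _ hQ nm' hcop' e
    have h4 : orderOf (y ^ q) = orderOf y := Nat.eq_of_mul_eq_mul_left Nat.card_pos (h3.symm.trans h2)
    have hr : r ≠ 0 := by
      rintro rfl
      rw [pow_zero, orderOf_eq_one_iff] at ord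
      exact hne (ord ▸ one_mem _)
    rw [orderOf_pow_of_dvd hq.out.ne_zero (ord ▸ dvd_pow_self q hr)] at h4
    exact (Nat.div_lt_self (orderOf_pos y) hq.out.one_lt).ne h4
  · have h3 := cardsup U y (hQ.to_le hU.le) hU' hcop e
    have h4 : Nat.card U = Nat.card Q := Nat.eq_of_mul_eq_mul_right (orderOf_pos y) (h3.symm.trans h2)
    exact hU.ne (eq_of_le_of_card_ge hU.le h4.ge)

end Cfsg.Agent.Elu.Sm
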