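import Cfsg.Agent.Elu.Sm1

/-! Minimal non-`p`-nilpotent groups, part 2: field coordinates `Co` on `P / P'` (`Amb.exists_co`),
invariant alternating maps (`alt_bound`), the order bound `Amb.card_le`, and the fibre product
argument `exists_surj`. -/

set_option autoImplicit false

namespace Cfsg.Agent.Elu.Sm

open Subgroup Cfsg.Agent.Transfer Cfsg.Agent.BG
open scoped commutatorElement IsMulCommutative

section Field
variable {K : Type*} [Field K] [Fintype K] {p q d : ℕ} {ζ : K}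

/-- irreducibility of the additive group under multiplication by `ζ` -/
def Irr (ζ : K) : Prop := ∀ U : AddSubgroup K, (∀ x ∈ U, ζ * x ∈ U) → U = ⊥ ∨ U = ⊤

omit [Fintype K] in
theorem Irr.ind (h : Irr ζ) (U : AddSubgroup K) (h1 : (1 : K) ∈ U) (hU : ∀ x ∈ U, ζ * x ∈ U) (x : K) :
    x ∈ U := by
  rcases h U hU with e | e
  · rw [e] at h1; simp at h1
  · rw [e]; trivial

omit [Fintype K] in
theorem pow_iff [hq : Fact q.Prime] (ho : orderOf ζ = q) (n : ℕ) : (n : ZMod q) = 1 ↔ ζ ^ n = ζ := by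
  have h0 : ζ ≠ 0 := by
    rintro rfl
    have := pow_orderOf_eq_one (0 : K)
    rw [ho, zero_pow hq.out.ne_zero] at this
    exact zero_ne_one this
  rw [← Nat.cast_one (R := ZMod q), ZMod.natCast_eq_natCast_iff, ← ho]
  conv_rhs => rw [eq_comm]; lhs; rw [← pow_one ζ]
  rw [eq_comm, ← Units.val_mk0 h0, ← Units.val_pow_eq_pow_val, ← Units.val_pow_eq_pow_val, Units.val_inj,
    pow_eq_pow_iff_modEq, orderOf_units]

theorem ord_pos [hp : Fact p.Prime] [hq : Fact q.Prime] (hpq : p ≠ q) : 0 < orderOf (p : ZMod q) := by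
  have h0 : (p : ZMod q) ≠ 0 := fun h =>
    hpq ((Nat.prime_dvd_prime_iff_eq hq.out hp.out).1 ((ZMod.natCast_eq_zero_iff p q).1 h)).symm
  exact (isOfFinOrder_iff_pow_eq_one.2 ⟨q - 1, Nat.sub_pos_of_lt hq.out.one_lt,
    ZMod.pow_card_sub_one_eq_one h0⟩).orderOf_pos

theorem deg_eq [hp : Fact p.Prime] [hq : Fact q.Prime] (hpq : p ≠ q) (hK : Fintype.card K = p ^ d)
    (ho : orderOf ζ = q) (hi : Irr ζ) : d = orderOf (p : ZMod q) := by
  have h1 : d ≤ orderOf (p : ZMod q) := FG.field_le_of_pow hp.out hK hi (ord_pos hpq)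
    ((pow_iff ho _).1 (by rw [Nat.cast_pow, pow_orderOf_eq_one]))
  have hd0 : 0 < d := Nat.pos_of_ne_zero (by
    rintro rfl
    exact (Fintype.one_lt_card (α := K)).ne' (by simpa using hK))
  exact le_antisymm h1 (orderOf_le_of_pow_eq_one hd0 (by
    rw [← Nat.cast_pow]; exact (pow_iff ho _).2 (hK ▸ FiniteField.pow_card ζ)))

theorem card_sq_le (σ : K →+* K) (h1 : σ ζ * ζ = 1) (h2 : ζ * ζ ≠ 1) (ε : K) (U : AddSubgroup K)
    (hU : ∀ x ∈ U, σ x = ε * x) (hε : ε ≠ 0) : Nat.card U * Nat.card U ≤ Nat.card K := by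
  rw [← Nat.card_prod]
  refine Nat.card_le_card_of_injective (fun x : U × U => (x.1 : K) + ζ * x.2) ?_
  rintro ⟨s, t⟩ ⟨s', t'⟩ e
  have e : (s : K) + ζ * t = s' + ζ * t' := e
  have e' := congrArg σ e
  simp only [map_add, map_mul, hU _ s.2, hU _ t.2, hU _ s'.2, hU _ t'.2] at e'
  have e3 : (ε * (ζ * ζ - 1)) * ((t : K) - t') = 0 := by
    linear_combination (ε * ζ) * e - ζ * e' + (ε * (t - t')) * h1
  have e4 : (t : K) = t' :=
    sub_eq_zero.1 ((mul_eq_zero.1 e3).resolve_left (mul_ne_zero hε (sub_ne_zero.2 h2)))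
  rw [e4, add_left_inj] at e
  rw [Subtype.ext e, Subtype.ext e4]

omit [Fintype K] in
theorem card_range_mul {A : Type*} [AddCommGroup A] (f : K →+ A) :
    Nat.card f.range * Nat.card f.ker = Nat.card K := by
  rw [← Nat.card_congr (QuotientAddGroup.quotientKerEquivRange f).toEquiv]
  exact (AddSubgroup.card_eq_card_quotient_mul_card_addSubgroup _).symm

theorem alt_bound [hp : Fact p.Prime] [hq : Fact q.Prime] (hpq : p ≠ q) (hK : Fintype.card K = p ^ d)
    (ho : orderOf ζ = q) (hi : Irr ζ) {A : Type*} [AddCommGroup A] (c : K →+ K →+ A)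
    (hz : ∀ k l, c (ζ * k) (ζ * l) = c k l) (ha : ∀ k, c k k = 0) :
    (∀ k l, c k l ∈ (c 1).range) ∧ Nat.card (c 1).range * Nat.card (c 1).range ≤ p ^ d ∧
      (d % 2 = 1 → Nat.card (c 1).range = 1) := by
  have hz1 : ζ ^ q = 1 := ho ▸ pow_orderOf_eq_one ζ
  have h0 : ζ ≠ 0 := by rintro rfl; rw [zero_pow hq.out.ne_zero] at hz1; exact zero_ne_one hz1
  have hne : ζ ≠ 1 := by rintro rfl; rw [orderOf_one] at ho; exact hq.out.ne_one ho.symm
  have hz' : ∀ k l, c (ζ * k) l = c k (ζ⁻¹ * l) := fun k l => by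
    rw [← hz k, mul_inv_cancel_left₀ h0]
  have ex : ∀ k, ∃ s, ∀ l, c k l = c 1 (s * l) := fun k => hi.ind
    { carrier := {k | ∃ s, ∀ l, c k l = c 1 (s * l)}
      add_mem' := fun ⟨s, hs⟩ ⟨t, ht⟩ => ⟨s + t, fun l => by simp [hs, ht, add_mul]⟩
      zero_mem' := ⟨0, by simp⟩
      neg_mem' := fun ⟨s, hs⟩ => ⟨-s, fun l => by simp [hs]⟩ } ⟨1, by simp⟩
    (fun x ⟨s, hs⟩ => ⟨s * ζ⁻¹, fun l => by rw [hz', hs, mul_assoc]⟩) k
  refine ⟨fun k l => (ex k).elim fun s hs => ⟨_, (hs l).symm⟩, ?_⟩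
  by_cases hc : c 1 = 0
  · have : Nat.card (c 1).range = 1 := by
      rw [hc, AddMonoidHom.range_zero]; simp
    rw [this]
    exact ⟨Nat.one_le_pow _ _ hp.out.pos, fun _ => rfl⟩
  have h2 : ζ * ζ ≠ 1 := by
    intro e
    have e' : ζ = -1 := (mul_self_eq_one_iff.1 e).resolve_left hne
    refine hc (AddMonoidHom.ext fun x => hi.ind (c 1).ker (ha 1) (fun x hx => ?_) x)
    rw [e', neg_one_mul]; exact neg_mem hx
  have inj : ∀ s, (∀ l, c 1 (s * l) = 0) → s = 0 := fun s hs => by_contra fun h =>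
    hc (AddMonoidHom.ext fun x => by simpa [h] using hs (s⁻¹ * x))
  choose σ hσ using ex
  have ext : ∀ k s, (∀ l, c k l = c 1 (s * l)) → σ k = s := fun k s hs =>
    sub_eq_zero.1 (inj _ fun l => by rw [sub_mul, map_sub, ← hσ, ← hs, sub_self])
  let φ : K →+ K := AddMonoidHom.mk' σ fun k k' => ext _ _ fun l => by
    simp [hσ k, hσ k', add_mul]
  have φ1 : φ 1 = 1 := ext _ _ (by simp)
  have φz : ∀ x, φ (ζ * x) = ζ⁻¹ * φ x := fun x => ext _ _ fun l => by
    rw [hz', hσ]; congr 1; change σ x * _ = _ * σ x * _; ring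
  obtain ⟨i, hi'⟩ := FG.field_semi hp.out hK hi φ (by simp [φ1]) φz
  haveI : CharP K p := by
    obtain ⟨n, hn, hc⟩ := FiniteField.card K (ringChar K)
    have : p = ringChar K := by
      rw [hK] at hc
      exact (Nat.prime_dvd_prime_iff_eq hp.out hn).1 (hp.out.dvd_of_dvd_pow (hc ▸ dvd_pow_self p (by
        rintro rfl
        exact (Fintype.one_lt_card (α := K)).ne' (by simpa using hK))))
    exact this ▸ inferInstance
  let F : K →+* K := iterateFrobenius K p i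
  have hF : F ζ * ζ = 1 := by rw [iterateFrobenius_def, ← hi', inv_mul_cancel₀ h0]
  have hφ : ∀ x, φ x = F x := fun x => hi.ind (φ.eqLocus F.toAddMonoidHom) (by
    change φ 1 = F 1; rw [φ1, map_one]) (fun x hx => by
      change φ (ζ * x) = F (ζ * x)
      rw [φz, map_mul, show φ x = F x from hx, hi']; rfl) x
  refine ⟨?_, fun hd => ?_⟩
  · let T : K →+ K := AddMonoidHom.id K + F.toAddMonoidHom
    have h3 : T.range ≤ (c 1).ker := by
      rintro _ ⟨k, rfl⟩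
      have e1 : c k 1 = c 1 (F k) := by rw [hσ, mul_one]; exact congrArg _ (hφ k)
      have e2 := ha (1 + k)
      simp only [map_add, AddMonoidHom.add_apply, ha, e1] at e2
      change c 1 (k + F k) = 0
      rw [map_add, ← e2]; abel
    have h4 := card_range_mul T
    have h5 := card_range_mul (c 1)
    have h6 := AddSubgroup.card_le_of_le h3
    have h7 : Nat.card (c 1).range ≤ Nat.card T.ker := by
      refine Nat.le_of_mul_le_mul_right ?_ (Nat.card_pos (α := (c 1).ker))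
      rw [h5, ← h4, mul_comm]
      exact Nat.mul_le_mul_left _ h6
    have h8 := card_sq_le F hF h2 (-1) T.ker (fun x hx => by
      have : x + F x = 0 := hx
      linear_combination this) (by simp)
    rw [Nat.card_eq_fintype_card (α := K), hK] at h8
    exact (Nat.mul_le_mul h7 h7).trans h8
  · exfalso
    have e1 : ζ ^ p ^ (2 * i) = ζ := by
      rw [two_mul, pow_add, pow_mul, ← hi', inv_pow, ← hi', inv_inv]
    have e2 := (pow_iff ho _).2 e1
    rw [Nat.cast_pow] at e2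
    have e3 := orderOf_dvd_of_pow_eq_one e2
    rw [← deg_eq hpq hK ho hi] at e3
    have e4 : d ∣ i := (Nat.Coprime.dvd_mul_left
      ((Nat.coprime_two_right).2 (Nat.odd_iff.2 hd))).1 e3
    rw [deg_eq hpq hK ho hi] at e4
    have e5 := (pow_iff ho (p ^ i)).1 (by rw [Nat.cast_pow]; exact orderOf_dvd_iff_pow_eq_one.1 e4)
    rw [← hi'] at e5
    exact h2 (by nth_rewrite 1 [← e5]; exact inv_mul_cancel₀ h0)

end Field

variable {p q r : ℕ} {X : Type*} [Group X] [Finite X] {P : Subgroup X} {y : X}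

/-- coordinates on `P / P'` -/
structure Co (P : Subgroup X) (y : X) {K : Type*} [Field K] (ζ : K) (π : X → K) : Prop where
  add : ∀ u ∈ P, ∀ v ∈ P, π (u * v) = π u + π v
  surj : ∀ k, ∃ u ∈ P, π u = k
  act : ∀ u ∈ P, π (y * u * y⁻¹) = ζ * π u
  ker : ∀ u ∈ P, π u = 0 → u ∈ ⁅P, P⁆
  cen : ⁅P, P⁆ ≤ center X

namespace Co
variable {K : Type*} [Field K] {ζ : K} {π : X → K}

omit [Finite X] in
theorem one (h : Co P y ζ π) : π 1 = 0 := by simpa using h.add 1 (one_mem _) 1 (one_mem _)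

omit [Finite X] in
theorem inv (h : Co P y ζ π) {u : X} (hu : u ∈ P) : π u⁻¹ = -π u := by
  have := h.add u hu u⁻¹ (inv_mem hu)
  rw [mul_inv_cancel, h.one] at this
  exact eq_neg_of_add_eq_zero_right this.symm

/-- the coordinate map as a homomorphism -/
def hom (h : Co P y ζ π) : P →* Multiplicative K :=
  MonoidHom.mk' (fun u => Multiplicative.ofAdd (π u)) fun u v => congrArg _ (h.add u u.2 v v.2)

omit [Finite X] in
theorem pow (h : Co P y ζ π) (nm : ∀ u ∈ P, y * u * y⁻¹ ∈ P) (k : ℕ) : Co P (y ^ k) (ζ ^ k) π := by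
  refine ⟨h.add, h.surj, ?_, h.ker, h.cen⟩
  induction k with
  | zero => simp
  | succ k ih =>
    intro u hu
    have := ih _ (nm u hu)
    rw [h.act u hu] at this
    rw [pow_succ ζ, mul_assoc (ζ ^ k), ← this, pow_succ]
    congr 1; group

omit [Finite X] in
theorem map (h : Co P y ζ π) {K' : Type*} [Field K'] (e : K ≃+* K') : Co P y (e ζ) (e ∘ π) :=
  ⟨fun u hu v hv => by simp [h.add u hu v hv], fun k => (h.surj (e.symm k)).imp fun _ hu =>
    ⟨hu.1, by simp [hu.2]⟩, fun u hu => by simp [h.act u hu], fun u hu e' => h.ker u hu (by simpa using e'),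
    h.cen⟩

theorem card (h : Co P y ζ π) : Nat.card P ≤ Nat.card K * Nat.card (⁅P, P⁆ : Subgroup X) := by
  have h1 : h.hom.ker.map P.subtype ≤ ⁅P, P⁆ := by
    rintro _ ⟨u, hu, rfl⟩
    exact h.ker u u.2 hu
  have h2 := Subgroup.card_le_of_le h1
  rw [card_subtype] at h2
  have h3 : h.hom.range = ⊤ := MonoidHom.range_eq_top.2 fun k => by
    obtain ⟨u, hu, e⟩ := h.surj k.toAdd
    exact ⟨⟨u, hu⟩, congrArg Multiplicative.ofAdd e⟩
  have h4 := card_eq_card_quotient_mul_card_subgroup h.hom.ker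
  rw [Nat.card_congr (QuotientGroup.quotientKerEquivRange h.hom).toEquiv, h3, card_top] at h4
  rw [h4]
  exact Nat.mul_le_mul_left _ h2

theorem card_der [Fact p.Prime] [Fact q.Prime] (hpq : p ≠ q) [Fintype K] (h : Co P y ζ π)
    (nm : ∀ u ∈ P, y * u * y⁻¹ ∈ P) {d : ℕ} (hK : Fintype.card K = p ^ d) (ho : orderOf ζ = q)
    (hi : Irr ζ) : Nat.card (⁅P, P⁆ : Subgroup X) * Nat.card (⁅P, P⁆ : Subgroup X) ≤ p ^ d ∧
      (d % 2 = 1 → Nat.card (⁅P, P⁆ : Subgroup X) = 1) := by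
  choose s hs hs' using h.surj
  have cen : ∀ u ∈ P, ∀ v ∈ P, ⁅u, v⁆ ∈ center X := fun u hu v hv => h.cen (commutator_mem_commutator hu hv)
  have dep : ∀ u ∈ P, ∀ u' ∈ P, π u = π u' → ∃ z ∈ center X, u' = u * z := fun u hu u' hu' e =>
    ⟨u⁻¹ * u', h.cen (h.ker _ (mul_mem (inv_mem hu) hu') (by
      rw [h.add _ (inv_mem hu) _ hu', h.inv hu, e, neg_add_cancel])), by group⟩
  have dep2 : ∀ u ∈ P, ∀ v ∈ P, ⁅s (π u), s (π v)⁆ = ⁅u, v⁆ := fun u hu v hv => by
    obtain ⟨z, hz, e⟩ := dep u hu _ (hs (π u)) (hs' _).symm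
    obtain ⟨z', hz', e'⟩ := dep v hv _ (hs (π v)) (hs' _).symm
    rw [e, e', commutatorElement_def, commutatorElement_def]
    have a1 := mem_center_iff.1 hz
    have a2 := mem_center_iff.1 hz'
    calc u * z * (v * z') * (u * z)⁻¹ * (v * z')⁻¹ = u * (z * (v * z') * z⁻¹) * u⁻¹ * z'⁻¹ * v⁻¹ := by group
      _ = u * v * (z' * u⁻¹) * z'⁻¹ * v⁻¹ := by rw [← a1]; group
      _ = _ := by rw [← a2]; group
  have mulL : ∀ u ∈ P, ∀ u' ∈ P, ∀ v ∈ P, ⁅u * u', v⁆ = ⁅u, v⁆ * ⁅u', v⁆ := fun u hu u' hu' v hv => by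
    have := mem_center_iff.1 (cen u' hu' v hv)
    calc ⁅u * u', v⁆ = (u * ⁅u', v⁆) * u⁻¹ * ⁅u, v⁆ := by simp only [commutatorElement_def]; group
      _ = _ := by rw [this, mul_inv_cancel_right, this]
  have mulR : ∀ u ∈ P, ∀ v ∈ P, ∀ v' ∈ P, ⁅u, v * v'⁆ = ⁅u, v⁆ * ⁅u, v'⁆ := fun u hu v hv v' hv' => by
    have := mem_center_iff.1 (cen u hu v' hv')
    calc ⁅u, v * v'⁆ = ⁅u, v⁆ * (v * ⁅u, v'⁆) * v⁻¹ := by simp only [commutatorElement_def]; group
      _ = _ := by rw [this, mul_assoc, mul_inv_cancel_right]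
  let c0 : K → K → Additive (center X) := fun k l => Additive.ofMul ⟨⁅s k, s l⁆, cen _ (hs k) _ (hs l)⟩
  let c : K →+ K →+ Additive (center X) := AddMonoidHom.mk' (fun k => AddMonoidHom.mk' (c0 k) fun l l' => by
      apply Additive.toMul.injective
      apply Subtype.ext
      change ⁅s k, s (l + l')⁆ = ⁅s k, s l⁆ * ⁅s k, s l'⁆
      rw [← mulR _ (hs k) _ (hs l) _ (hs l'), ← dep2 _ (hs k) _ (mul_mem (hs l) (hs l')),
        h.add _ (hs l) _ (hs l'), hs', hs', hs']) fun k k' => AddMonoidHom.ext fun l => by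
      apply Additive.toMul.injective
      apply Subtype.ext
      change ⁅s (k + k'), s l⁆ = ⁅s k, s l⁆ * ⁅s k', s l⁆
      rw [← mulL _ (hs k) _ (hs k') _ (hs l), ← dep2 _ (mul_mem (hs k) (hs k')) _ (hs l),
        h.add _ (hs k) _ (hs k'), hs', hs', hs']
  obtain ⟨b1, b2, b3⟩ := alt_bound hpq hK ho hi c (fun k l => by
      apply Additive.toMul.injective
      apply Subtype.ext
      change ⁅s (ζ * k), s (ζ * l)⁆ = ⁅s k, s l⁆
      have := dep2 _ (nm _ (hs k)) _ (nm _ (hs l))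
      rw [h.act _ (hs k), h.act _ (hs l), hs', hs'] at this
      rw [this, ← conjugate_commutatorElement, mem_center_iff.1 (cen _ (hs k) _ (hs l)),
        mul_inv_cancel_right]) fun k => by
      apply Additive.toMul.injective
      apply Subtype.ext
      exact commutatorElement_self _
  have hle : Nat.card (⁅P, P⁆ : Subgroup X) ≤ Nat.card (c 1).range := by
    have : (⁅P, P⁆ : Subgroup X) ≤ (AddSubgroup.toSubgroup' (c 1).range).map (center X).subtype :=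
      commutator_le.2 fun u hu v hv => ⟨_, b1 (π u) (π v), dep2 u hu v hv⟩
    have := Subgroup.card_le_of_le this
    rwa [card_subtype] at this
  exact ⟨(Nat.mul_le_mul hle hle).trans b2, fun hd => le_antisymm (b3 hd ▸ hle) Nat.card_pos⟩

end Co

namespace Amb
variable [hp : Fact p.Prime] [hq : Fact q.Prime]

theorem exists_co (hpq : p ≠ q) (h : Amb p q r P y) (ht : P ⊔ zpowers y = ⊤) :
    ∃ (K : Type) (_ : Field K) (_ : Fintype K) (ζ : K) (π : X → K), Co P y ζ π ∧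
      Fintype.card K = p ^ orderOf (p : ZMod q) ∧ orderOf ζ = q ∧ Irr ζ := by
  haveI := h.normal ht
  have cm : ∀ U : Subgroup X, (∀ u ∈ U, y * u = u * y) → ⁅U, zpowers y⁆ = ⊥ := fun U hU =>
    commutator_eq_bot_iff_le_centralizer.2 fun u hu z hz => by
      obtain ⟨i, rfl⟩ := hz
      exact (Commute.zpow_left (hU u hu) i).eq
  obtain ⟨u0, hu0, hne⟩ := h.nt
  obtain ⟨h1, h2, h3, h4, -⟩ := Gen.minimal_action (B := zpowers y) (A := zpowers y) h.pg
    (fun _ hg => conj_zpow_mem h.nm hg) le_rfl le_normalizer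
    (by rw [Nat.card_zpowers, h.ord]; simpa using (coprime_pq hpq 1 r).symm)
    (fun e => hne (commutator_eq_bot_iff_le_centralizer.1 e hu0 y (mem_zpowers y)))
    fun U hU hn => cm U (h.mn U hU fun u hu => (mem_normalizer_iff.1 (hn (mem_zpowers y)) u).1 hu)
  rw [h3] at h2 h4
  have cen : (⁅P, P⁆ : Subgroup X) ≤ center X := fun z hz => mem_center_iff.2 fun g => by
    have : (⊤ : Subgroup X) ≤ centralizer {z} := ht ▸ sup_le
      (fun u hu => mem_centralizer_singleton_iff.2 ((h4 hz).2 u hu))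
      (fun u hu => mem_centralizer_singleton_iff.2 ((h2.ge hz).2 u hu))
    exact mem_centralizer_singleton_iff.1 (this (mem_top g))
  let f := QuotientGroup.mk' (⁅P, P⁆ : Subgroup X)
  have fk : ∀ u, f u = 1 ↔ u ∈ (⁅P, P⁆ : Subgroup X) := fun u => QuotientGroup.eq_one_iff u
  have irr : ∀ U : Subgroup (X ⧸ (⁅P, P⁆ : Subgroup X)), U ≤ P.map f →
      (∀ u ∈ U, f y * u * (f y)⁻¹ ∈ U) → U = ⊥ ∨ U = P.map f := fun U hU hU' => by
    by_cases e : P ≤ U.comap f
    · exact Or.inr (le_antisymm hU (map_le_iff_le_comap.2 e))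
    refine Or.inl (eq_bot_iff.2 fun u hu => ?_)
    obtain ⟨u, hu', rfl⟩ := hU hu
    have := h.mn (U.comap f ⊓ P) (inf_lt_right.2 e)
      (fun v hv => ⟨by simpa using hU' _ hv.1, h.nm v hv.2⟩) u ⟨hu, hu'⟩
    refine (fk u).2 (h2.le ⟨hu', fun z hz => ?_⟩)
    obtain ⟨i, rfl⟩ := hz
    exact (Commute.zpow_left this i).eq
  have hzc : ∀ a ∈ zpowers (f y), ∀ b ∈ zpowers (f y), a * b = b * a := by
    rintro _ ⟨i, rfl⟩ _ ⟨j, rfl⟩; exact ((Commute.refl _).zpow_zpow i j).eq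
  have nmf : ∀ u ∈ P.map f, f y * u * (f y)⁻¹ ∈ P.map f := by
    rintro _ ⟨u, hu, rfl⟩; exact ⟨_, h.nm u hu, by simp⟩
  obtain ⟨K, _, _, τ, -, hadd, hinj, hN, hτ⟩ := Perm.exists_field_of_conj (P.map f) (zpowers (f y))
    (by
      rintro _ ⟨u, hu, rfl⟩ _ ⟨v, hv, rfl⟩
      rw [← commutatorElement_eq_one_iff_mul_comm, ← map_commutatorElement]
      exact (fk _).2 (commutator_mem_commutator hu hv)) hzc
    (fun g hg u hu => (mem_normalizer_iff.1 (conj_zpow_mem nmf hg) u).1 hu)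
    (fun U hU hU' => irr U hU (hU' _ (mem_zpowers _))) (v := f u0) ⟨u0, hu0, rfl⟩
    (fun e => hne (mem_center_iff.1 (cen ((fk _).1 e)) y))
  obtain ⟨ζ, hζ⟩ := hτ (f y) nmf fun g hg => hzc g hg _ (mem_zpowers _)
  have τ0 : τ 0 = 1 := by have := hadd 0 0; rw [add_zero] at this; exact left_eq_mul.1 this
  let π : X → K := fun u => Function.invFun τ (f u)
  have hπ : ∀ u ∈ P, τ (π u) = f u := fun u hu => Function.invFun_eq ((hN _).1 ⟨u, hu, rfl⟩)
  have co : Co P y ζ π := ⟨fun u hu v hv => hinj (by rw [hadd, hπ _ (mul_mem hu hv), hπ u hu, hπ v hv, map_mul]),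
    fun k => by
      obtain ⟨u, hu, e⟩ := (hN _).2 ⟨k, rfl⟩
      exact ⟨u, hu, hinj (by rw [hπ u hu, e])⟩,
    fun u hu => hinj (by rw [hπ _ (h.nm u hu), ← hζ, hπ u hu]; simp),
    fun u hu e => (fk u).1 (by rw [← hπ u hu, e, τ0]), cen⟩
  have ho : orderOf ζ = q := by
    refine orderOf_eq_prime ?_ ?_
    · obtain ⟨u, hu, e⟩ := co.surj 1
      have := (co.pow h.nm q).act u hu
      rw [h.ce u hu, mul_inv_cancel_right, e, mul_one] at this
      exact this.symm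
    · rintro rfl
      have h5 : ⁅P, zpowers y⁆ ≤ (⁅P, P⁆ : Subgroup X) := by
        refine commutator_le.2 fun u hu z hz => (fk _).1 ?_
        obtain ⟨i, rfl⟩ := hz
        have : Commute (f y) (f u) := mul_inv_eq_iff_eq_mul.1 (by rw [← hπ u hu, hζ, one_mul])
        rw [map_commutatorElement, map_zpow]
        exact (this.zpow_left i).symm.commutator_eq
      exact hne (mem_center_iff.1 (cen (h5 (h1.ge hu0))) y)
  have hi : Irr ζ := fun U hU => by
    let L : Subgroup (X ⧸ (⁅P, P⁆ : Subgroup X)) :=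
      { carrier := τ '' U
        mul_mem' := by rintro _ _ ⟨x, hx, rfl⟩ ⟨y, hy, rfl⟩; exact ⟨x + y, U.add_mem hx hy, hadd x y⟩
        one_mem' := ⟨0, U.zero_mem, τ0⟩
        inv_mem' := by
          rintro _ ⟨x, hx, rfl⟩
          exact ⟨-x, U.neg_mem hx, eq_inv_of_mul_eq_one_left (by rw [← hadd, neg_add_cancel, τ0])⟩ }
    rcases irr L (by rintro _ ⟨x, _, rfl⟩; exact (hN _).2 ⟨x, rfl⟩)
      (by rintro _ ⟨x, hx, rfl⟩; exact ⟨_, hU x hx, (hζ x).symm⟩) with e | e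
    · refine Or.inl (eq_bot_iff.2 fun x hx => hinj ?_)
      have : τ x ∈ L := ⟨x, hx, rfl⟩
      rwa [e, mem_bot, ← τ0] at this
    · refine Or.inr (eq_top_iff.2 fun x _ => ?_)
      obtain ⟨z, hz, e'⟩ : τ x ∈ L := e ▸ (hN _).2 ⟨x, rfl⟩
      exact hinj e' ▸ hz
  obtain ⟨d, hd⟩ := IsPGroup.iff_card.1 (h.pg.of_surjective co.hom fun k => by
    obtain ⟨u, hu, e⟩ := co.surj k.toAdd
    exact ⟨⟨u, hu⟩, congrArg Multiplicative.ofAdd e⟩)
  have hK : Fintype.card K = p ^ d := by rw [← hd, ← Nat.card_eq_fintype_card]; rfl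
  exact ⟨K, inferInstance, inferInstance, ζ, π, co, deg_eq hpq hK ho hi ▸ hK, ho, hi⟩

theorem card_le (hpq : p ≠ q) (h : Amb p q r P y) (ht : P ⊔ zpowers y = ⊤) {a a₀ : ℕ}
    (ha : a = orderOf (p : ZMod q)) (ha₀ : a₀ = if a % 2 = 1 then a else 3 * a / 2) :
    Nat.card X ≤ p ^ a₀ * q ^ r := by
  obtain ⟨K, _, _, ζ, π, co, hK, ho, hi⟩ := h.exists_co hpq ht
  rw [← ha] at hK
  rw [h.card hpq ht]
  refine Nat.mul_le_mul_right _ (co.card.trans ?_)
  obtain ⟨b1, b2⟩ := co.card_der hpq h.nm hK ho hi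
  rw [Nat.card_eq_fintype_card (α := K), hK, ha₀]
  split_ifs with hd
  · rw [b2 hd, mul_one]
  · obtain ⟨b, rfl⟩ : ∃ b, a = b + b := ⟨a / 2, by omega⟩
    rw [show 3 * (b + b) / 2 = b + b + b by omega, pow_add p (b + b)]
    rw [pow_add] at b1
    exact Nat.mul_le_mul_left _ (Nat.mul_self_le_mul_self_iff.1 b1)

end Amb

theorem exists_surj [hp : Fact p.Prime] [hq : Fact q.Prime] (hpq : p ≠ q) {a a₀ : ℕ}
    (ha : a = orderOf (p : ZMod q)) (ha₀ : a₀ = if a % 2 = 1 then a else 3 * a / 2)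
    {G : Type*} [Group G] [Finite G] (hG : MN p G) (hc : Nat.card G = p ^ a₀ * q ^ r)
    (hX : MN p X) {t : ℕ} (hc' : Nat.card X = p ^ t * q ^ r) :
    ∃ φ : G →* X, Function.Surjective φ ∧ φ.ker ≤ center G := by
  obtain ⟨P1, y1, h1, t1⟩ := exists_amb hpq hG hc
  obtain ⟨P2, y2, h2, t2⟩ := exists_amb hpq hX hc'
  obtain ⟨K, _, _, ζ, π1, c1, k1, o1, -⟩ := h1.exists_co hpq t1
  obtain ⟨K2, _, _, ζ2, π2, c2, k2, o2, -⟩ := h2.exists_co hpq t2
  let e : K2 ≃+* K := FiniteField.ringEquivOfCardEq (k2.trans k1.symm)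
  have o3 : orderOf (e ζ2) = q := by rw [← o2]; exact e.toMulEquiv.orderOf_eq ζ2
  have pr : IsPrimitiveRoot (e ζ2) q := o3 ▸ IsPrimitiveRoot.orderOf _
  haveI : NeZero q := ⟨hq.out.ne_zero⟩
  have hne : ζ ≠ 1 := by rintro rfl; rw [orderOf_one] at o1; exact hq.out.ne_one o1.symm
  obtain ⟨k, hk, ek⟩ := pr.eq_pow_of_pow_eq_one (o1 ▸ pow_orderOf_eq_one ζ : ζ ^ q = 1)
  have hkq : k.Coprime q := ((Nat.Prime.coprime_iff_not_dvd hq.out).2 fun hd => hne (by
    rw [← ek, Nat.eq_zero_of_dvd_of_lt hd hk, pow_zero])).symm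
  have c3 := (c2.map e).pow h2.nm k
  rw [ek] at c3
  have h3 := h2.pow hkq
  have t3 : P2 ⊔ zpowers (y2 ^ k) = ⊤ := by
    obtain ⟨m, hm⟩ := exists_pow_eq_self_of_coprime (show k.Coprime (orderOf y2) by
      rw [h2.ord]; exact hkq.pow_right r)
    have : y2 ∈ zpowers (y2 ^ k) := mem_zpowers_iff.2 ⟨m, by simpa using hm⟩
    exact eq_top_iff.2 (t2 ▸ sup_le_sup_left (zpowers_le.2 this) _)
  generalize y2 ^ k = y3 at c3 h3 t3
  generalize e ∘ π2 = π3 at c3
  let W0 : Subgroup (G × X) :=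
    { carrier := {u | u.1 ∈ P1 ∧ u.2 ∈ P2 ∧ π1 u.1 = π3 u.2}
      mul_mem' := fun {u v} hu hv => ⟨mul_mem hu.1 hv.1, mul_mem hu.2.1 hv.2.1, by
        rw [Prod.fst_mul, Prod.snd_mul, c1.add _ hu.1 _ hv.1, c3.add _ hu.2.1 _ hv.2.1, hu.2.2, hv.2.2]⟩
      one_mem' := ⟨one_mem _, one_mem _, c1.one.trans c3.one.symm⟩
      inv_mem' := fun {u} hu => ⟨inv_mem hu.1, inv_mem hu.2.1, by
        rw [Prod.fst_inv, Prod.snd_inv, c1.inv hu.1, c3.inv hu.2.1, hu.2.2]⟩ }
  have z1 : ∀ u ∈ P1, y1 * u = u * y1 → π1 u = 0 := fun u hu e => by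
    have := c1.act u hu
    rw [e, mul_inv_cancel_right] at this
    exact (mul_eq_zero.1 (show (ζ - 1) * π1 u = 0 by linear_combination -this)).resolve_left (sub_ne_zero.2 hne)
  have z3 : ∀ u ∈ P2, y3 * u = u * y3 → π3 u = 0 := fun u hu e => by
    have := c3.act u hu
    rw [e, mul_inv_cancel_right] at this
    exact (mul_eq_zero.1 (show (ζ - 1) * π3 u = 0 by linear_combination -this)).resolve_left (sub_ne_zero.2 hne)
  obtain ⟨W, hW, hA⟩ := exists_min (p := p) (q := q) (r := r) (W := W0) (y := (y1, y3))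
    (fun u => by
      obtain ⟨i, hi⟩ := h1.pg ⟨u.1.1, u.2.1⟩
      obtain ⟨j, hj⟩ := h3.pg ⟨u.1.2, u.2.2.1⟩
      refine ⟨i + j, Subtype.ext (Prod.ext ?_ ?_)⟩
      · have : u.1.1 ^ p ^ i = 1 := congrArg Subtype.val hi
        simp [pow_add, pow_mul, this]
      · have : u.1.2 ^ p ^ j = 1 := congrArg Subtype.val hj
        simp [add_comm i j, pow_add, pow_mul, this])
    (by rw [Prod.orderOf_mk, h1.ord, h3.ord, Nat.lcm_self])
    (fun u hu => ⟨h1.nm _ hu.1, h3.nm _ hu.2.1, (c1.act _ hu.1).trans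
      ((congrArg _ hu.2.2).trans (c3.act _ hu.2.1).symm)⟩)
    (by
      obtain ⟨u, hu, e1⟩ := c1.surj 1
      obtain ⟨v, hv, e3⟩ := c3.surj 1
      exact ⟨(u, v), ⟨hu, hv, e1.trans e3.symm⟩, fun e => one_ne_zero (e1 ▸ z1 u hu (congrArg Prod.fst e))⟩)
    fun u hu => Prod.ext (h1.ce _ hu.1) (h3.ce _ hu.2.1)
  have nz : ¬ ∀ u ∈ W, π1 u.1 = 0 := fun h => by
    obtain ⟨u, hu, hne⟩ := hA.nt
    exact hne (Prod.ext (mem_center_iff.1 (c1.cen (c1.ker _ (hW hu).1 (h u hu))) y1)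
      (mem_center_iff.1 (c3.cen (c3.ker _ (hW hu).2.1 ((hW hu).2.2 ▸ h u hu))) y3))
  have m1 : W.map (MonoidHom.fst G X) = P1 := by
    by_contra hn
    refine nz fun u hu => z1 _ (hW hu).1 (h1.mn (W.map (MonoidHom.fst G X)) (lt_of_le_of_ne ?_ hn) ?_ _ ⟨u, hu, rfl⟩)
    · rintro _ ⟨v, hv, rfl⟩; exact (hW hv).1
    · rintro _ ⟨v, hv, rfl⟩; exact ⟨_, hA.nm v hv, rfl⟩
  have m2 : W.map (MonoidHom.snd G X) = P2 := by
    by_contra hn
    refine nz fun u hu => (hW hu).2.2.trans (z3 _ (hW hu).2.1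
      (h3.mn (W.map (MonoidHom.snd G X)) (lt_of_le_of_ne ?_ hn) ?_ _ ⟨u, hu, rfl⟩))
    · rintro _ ⟨v, hv, rfl⟩; exact (hW hv).2.1
    · rintro _ ⟨v, hv, rfl⟩; exact ⟨_, hA.nm v hv, rfl⟩
  set Y := W ⊔ zpowers (y1, y3) with hY
  have s1 : Function.Surjective ((MonoidHom.fst G X).comp Y.subtype) := by
    rw [← MonoidHom.range_eq_top, MonoidHom.range_comp, range_subtype, hY, Subgroup.map_sup, m1,
      MonoidHom.map_zpowers]
    exact t1
  have s2 : Function.Surjective ((MonoidHom.snd G X).comp Y.subtype) := by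
    rw [← MonoidHom.range_eq_top, MonoidHom.range_comp, range_subtype, hY, Subgroup.map_sup, m2,
      MonoidHom.map_zpowers]
    exact t3
  have hb : Function.Bijective ((MonoidHom.fst G X).comp Y.subtype) :=
    s1.bijective_of_nat_card_le (hc ▸ hA.sub.1.card_le hpq hA.sub.2 ha ha₀)
  let E := MulEquiv.ofBijective _ hb
  refine ⟨((MonoidHom.snd G X).comp Y.subtype).comp E.symm.toMonoidHom, s2.comp E.symm.surjective, fun g hg => ?_⟩
  obtain ⟨g, rfl⟩ := E.surjective g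
  have hg : g.1.2 = 1 := by simpa using hg
  obtain ⟨w, hw, m, rfl⟩ := hA.sub.1.decomp hA.sub.2 g
  have hw' : w.1.1 ∈ P1 ∧ w.1.2 ∈ P2 ∧ π1 w.1.1 = π3 w.1.2 := hW hw
  have hg' : w.1.2 * y3 ^ m = 1 := hg
  have e3 : y3 ^ m = 1 := by
    have : y3 ^ m ∈ P2 ⊓ zpowers y3 := mem_inf.2 ⟨by
      rw [eq_inv_of_mul_eq_one_right hg']; exact inv_mem hw'.2.1, npow_mem_zpowers _ _⟩
    rwa [h3.inf_bot hpq, mem_bot] at this
  have e1 : y1 ^ m = 1 := orderOf_dvd_iff_pow_eq_one.1 (h1.ord ▸ h3.ord ▸ orderOf_dvd_of_pow_eq_one e3)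
  rw [e3, mul_one] at hg'
  change w.1.1 * y1 ^ m ∈ center G
  rw [e1, mul_one]
  exact c1.cen (c1.ker _ hw'.1 (by rw [hw'.2.2, hg', c3.one]))

end Cfsg.Agent.Elu.Sm
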