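import Cfsg.Agent.Elu.Sm2

/-! Minimal non-`p`-nilpotent groups, part 3: existence of one of the largest order (`exists_max`), built
from the additive group of a finite field or from the Heisenberg-type group `Hs σ`. -/

set_option autoImplicit false

namespace Cfsg.Agent.Elu.Sm

open Subgroup

universe u

variable {p q r : ℕ}

theorem exists_of_aut [hp : Fact p.Prime] [hq : Fact q.Prime] (hpq : p ≠ q) (hr : 1 ≤ r) {P : Type}
    [Group P] [Finite P] (hP : IsPGroup p P) (α : MulAut P) (h1 : α ^ q = 1) (h2 : α ≠ 1)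
    (h3 : ∀ U : Subgroup P, U ≠ ⊤ → (∀ u ∈ U, α u ∈ U) → ∀ u ∈ U, α u = u) :
    ∃ (G : Type u) (_ : Group G) (_ : Finite G), MN p G ∧ Nat.card G = Nat.card P * q ^ r := by
  haveI : NeZero (q ^ r) := ⟨pow_ne_zero _ hq.out.ne_zero⟩
  haveI : Finite (P ⋊[MonoidHom.id (MulAut P)] MulAut P) :=
    Finite.of_equiv _ SemidirectProduct.equivProd.symm
  let ι : P →* (P ⋊[MonoidHom.id (MulAut P)] MulAut P) × Multiplicative (ZMod (q ^ r)) :=
    (MonoidHom.inl _ _).comp SemidirectProduct.inl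
  have hι : Function.Injective ι := fun _ _ e => SemidirectProduct.inl_injective (congrArg Prod.fst e)
  let Y : MulAut P → Multiplicative (ZMod (q ^ r)) →
      (P ⋊[MonoidHom.id (MulAut P)] MulAut P) × Multiplicative (ZMod (q ^ r)) :=
    fun β c => (SemidirectProduct.inr β, c)
  have hY : ∀ β c u, Y β c * ι u * (Y β c)⁻¹ = ι (β u) := fun β c u => Prod.ext (by
    have := SemidirectProduct.inl_aut (φ := MonoidHom.id (MulAut P)) β u
    simpa [Y, ι] using this.symm) (by simp [Y, ι])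
  have hA : Amb p q r ι.range (Y α (Multiplicative.ofAdd 1)) := by
    refine ⟨hP.of_surjective _ ι.rangeRestrict_surjective, ?_, ?_, ?_, ?_, ?_⟩
    · rw [Prod.orderOf_mk, orderOf_injective _ SemidirectProduct.inr_injective, orderOf_ofAdd_eq_addOrderOf,
        ZMod.addOrderOf_one]
      exact Nat.lcm_eq_right ((orderOf_dvd_of_pow_eq_one h1).trans (dvd_pow_self q (by omega)))
    · rintro _ ⟨u, rfl⟩; exact ⟨_, (hY _ _ u).symm⟩
    · obtain ⟨u, hu⟩ := DFunLike.ne_iff.1 h2
      refine ⟨_, ⟨u, rfl⟩, fun e => hu (hι ?_)⟩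
      rw [← hY α (Multiplicative.ofAdd 1), e, mul_inv_cancel_right]; rfl
    · rintro _ ⟨u, rfl⟩
      have : Y α (Multiplicative.ofAdd 1) ^ q = Y 1 (Multiplicative.ofAdd 1 ^ q) :=
        Prod.ext (by simp [Y, ← map_pow, h1]) rfl
      rw [this, ← mul_inv_eq_iff_eq_mul, hY]; rfl
    · intro U hU hU' u hu
      obtain ⟨u, rfl⟩ := hU.le hu
      rw [← mul_inv_eq_iff_eq_mul, hY, h3 (U.comap ι) (fun e => hU.not_ge ?_) (fun v hv => ?_) u hu]
      · rintro _ ⟨v, rfl⟩
        exact (e ▸ mem_top v : v ∈ U.comap ι)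
      · have := hU' _ hv
        rwa [hY] at this
  refine ⟨ULift.{u} (ι.range ⊔ zpowers (Y α (Multiplicative.ofAdd 1)) : Subgroup _), inferInstance,
    inferInstance, (hA.sub.1.mn' hpq hA.sub.2).congr MulEquiv.ulift.symm, ?_⟩
  rw [Nat.card_ulift, hA.sub.1.card hpq hA.sub.2,
    Nat.card_congr (subgroupOfEquivOfLe le_sup_left).toEquiv,
    ← Nat.card_congr (MonoidHom.ofInjective hι).toEquiv]

section Field
variable {K : Type} [Field K]

theorem irr_of_card [Fintype K] [hp : Fact p.Prime] [hq : Fact q.Prime] {ζ : K}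
    (hK : Fintype.card K = p ^ orderOf (p : ZMod q)) (ho : orderOf ζ = q) : Irr ζ := by
  intro U hU
  let S : Subring K :=
    { carrier := {k | ∀ u ∈ U, k * u ∈ U}
      mul_mem' := fun ha hb u hu => by rw [mul_assoc]; exact ha _ (hb u hu)
      add_mem' := fun ha hb u hu => by rw [add_mul]; exact add_mem (ha u hu) (hb u hu)
      one_mem' := fun u hu => by rwa [one_mul]
      zero_mem' := fun u _ => by rw [zero_mul]; exact zero_mem _
      neg_mem' := fun ha u hu => by rw [neg_mul]; exact neg_mem (ha u hu) }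
  have hS : ∀ k, k ∈ S := by
    classical
    letI : Field S := Fintype.fieldOfDomain S
    obtain ⟨d, -, hd⟩ := (Nat.dvd_prime_pow hp.out).1 (show Nat.card S.toAddSubgroup ∣ _ from
      hK ▸ Nat.card_eq_fintype_card (α := K) ▸ S.toAddSubgroup.card_addSubgroup_dvd_card)
    have hd' : Fintype.card S = p ^ d := by rw [← hd, ← Nat.card_eq_fintype_card]; rfl
    have h1 : ζ ^ p ^ d = ζ := congrArg Subtype.val (hd' ▸ FiniteField.pow_card (⟨ζ, hU⟩ : S))
    have h2 := (pow_iff ho _).2 h1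
    rw [Nat.cast_pow] at h2
    have hd0 : 0 < d := Nat.pos_of_ne_zero (by
      rintro rfl
      exact (Fintype.one_lt_card (α := S)).ne' (by simpa using hd'))
    have h3 := orderOf_le_of_pow_eq_one hd0 h2
    have : S.toAddSubgroup = ⊤ := AddSubgroup.eq_top_of_le_card _ (by
      rw [hd, Nat.card_eq_fintype_card, hK]; exact Nat.pow_le_pow_right hp.out.pos h3)
    intro k
    exact (this ▸ AddSubgroup.mem_top k : k ∈ S.toAddSubgroup)
  by_cases h : U = ⊥
  · exact Or.inl h
  · obtain ⟨⟨u, hu⟩, h0⟩ := (AddSubgroup.ne_bot_iff_exists_ne_zero).1 h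
    have h0 : u ≠ 0 := fun e => h0 (Subtype.ext e)
    refine Or.inr (eq_top_iff.2 fun x _ => ?_)
    simpa [h0] using hS (x * u⁻¹) u hu

/-- the Heisenberg-type group of an involution `σ` -/
@[ext] structure Hs (σ : K →+* K) where
  v : K
  c : K
  h : c + σ c = v * σ v

namespace Hs
variable {σ : K →+* K} [hσ : Fact (∀ x, σ (σ x) = x)]

instance instMul : Mul (Hs σ) := ⟨fun x y => ⟨x.v + y.v, x.c + y.c + x.v * σ y.v, by
  simp only [map_add, map_mul, hσ.out]; linear_combination x.h + y.h⟩⟩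
instance instOne : One (Hs σ) := ⟨⟨0, 0, by simp⟩⟩
instance instInv : Inv (Hs σ) := ⟨fun x => ⟨-x.v, σ x.c, by
  simp only [map_neg, hσ.out]; linear_combination x.h⟩⟩

@[simp] theorem mul_v (x y : Hs σ) : (x * y).v = x.v + y.v := rfl
@[simp] theorem mul_c (x y : Hs σ) : (x * y).c = x.c + y.c + x.v * σ y.v := rfl
omit hσ in
@[simp] theorem one_v : (1 : Hs σ).v = 0 := rfl
omit hσ in
@[simp] theorem one_c : (1 : Hs σ).c = 0 := rfl
@[simp] theorem inv_v (x : Hs σ) : x⁻¹.v = -x.v := rfl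
@[simp] theorem inv_c (x : Hs σ) : x⁻¹.c = σ x.c := rfl

instance instGroup : Group (Hs σ) := Group.ofLeftAxioms
  (fun x y z => Hs.ext (by simp [add_assoc]) (by simp only [mul_c, mul_v, map_add]; ring))
  (fun x => Hs.ext (by simp) (by simp))
  (fun x => Hs.ext (by simp) (by simp only [mul_c, inv_c, inv_v, one_c]; linear_combination x.h))

/-- projection to the first coordinate -/
def pr : Hs σ →* Multiplicative K := MonoidHom.mk' (fun x => Multiplicative.ofAdd x.v) fun _ _ => rfl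

/-- the automorphism given by an element of norm one -/
def aut {ζ : K} (h : σ ζ * ζ = 1) : MulAut (Hs σ) where
  toFun x := ⟨ζ * x.v, x.c, by rw [map_mul]; linear_combination x.h - x.v * σ x.v * h⟩
  invFun x := ⟨σ ζ * x.v, x.c, by rw [map_mul, hσ.out]; linear_combination x.h - x.v * σ x.v * h⟩
  left_inv x := Hs.ext (by simp only; linear_combination x.v * h) rfl
  right_inv x := Hs.ext (by simp only; linear_combination x.v * h) rfl
  map_mul' x y := Hs.ext (by simp [mul_add]) (by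
    simp only [mul_c, map_mul]; linear_combination -(x.v * σ y.v) * h)

theorem aut_pow {ζ : K} (h : σ ζ * ζ = 1) (n : ℕ) (x : Hs σ) :
    ((aut h ^ n) x).v = ζ ^ n * x.v ∧ ((aut h ^ n) x).c = x.c := by
  induction n with
  | zero => simp
  | succ n ih =>
    rw [pow_succ', MulAut.mul_apply, pow_succ', mul_assoc, ← ih.1, ← ih.2]
    exact ⟨rfl, rfl⟩

end Hs

theorem exists_hs [Fintype K] [hp : Fact p.Prime] [hq : Fact q.Prime] (hpq : p ≠ q) (hr : 1 ≤ r)
    {b : ℕ} (hK : Fintype.card K = p ^ (b + b)) {ζ : K} (ho : orderOf ζ = q) (hi : Irr ζ)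
    (σ : K →+* K) (hσ : ∀ x, σ (σ x) = x) (h1 : σ ζ * ζ = 1) (h2 : ζ * ζ ≠ 1) :
    ∃ (G : Type u) (_ : Group G) (_ : Finite G), MN p G ∧ Nat.card G = p ^ (b + b + b) * q ^ r := by
  haveI := Fact.mk hσ
  let T : K →+ K := AddMonoidHom.id K + σ.toAddMonoidHom
  let D : K →+ K := AddMonoidHom.id K - σ.toAddMonoidHom
  have hT : ∀ x, T x = x + σ x := fun _ => rfl
  have hD : ∀ x, D x = x - σ x := fun _ => rfl
  have a1 := card_sq_le σ h1 h2 (-1) T.ker (fun x hx => by
    have : x + σ x = 0 := hx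
    linear_combination this) (by simp)
  have a2 := card_sq_le σ h1 h2 1 D.ker (fun x hx => by
    have : x - σ x = 0 := hx
    linear_combination -this) (by simp)
  have a3 := card_range_mul T
  have a4 := card_range_mul D
  rw [Nat.card_eq_fintype_card (α := K), hK, pow_add] at a1 a2 a3 a4
  replace a1 := Nat.mul_self_le_mul_self_iff.1 a1
  replace a2 := Nat.mul_self_le_mul_self_iff.1 a2
  have l1 : T.range ≤ D.ker := by
    rintro _ ⟨x, rfl⟩
    rw [AddMonoidHom.mem_ker, hD, hT, map_add, hσ]; ring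
  have l2 : D.range ≤ T.ker := by
    rintro _ ⟨x, rfl⟩
    rw [AddMonoidHom.mem_ker, hT, hD, map_sub, hσ]; ring
  have pb : 0 < p ^ b := pow_pos hp.out.pos b
  have b1 : p ^ b ≤ Nat.card T.range :=
    Nat.le_of_mul_le_mul_right (a3 ▸ Nat.mul_le_mul_left _ a1) pb
  have b2 : p ^ b ≤ Nat.card D.range :=
    Nat.le_of_mul_le_mul_right (a4 ▸ Nat.mul_le_mul_left _ a2) pb
  have e1 : T.range = D.ker := AddSubgroup.eq_of_le_of_card_ge l1 (a2.trans b1)
  have e2 : D.range = T.ker := AddSubgroup.eq_of_le_of_card_ge l2 (a1.trans b2)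
  have e3 : Nat.card T.ker = p ^ b := le_antisymm a1 (e2 ▸ b2)
  have su : ∀ v, ∃ x : Hs σ, x.v = v := fun v => by
    obtain ⟨c, hc⟩ : v * σ v ∈ T.range := by
      rw [e1, AddMonoidHom.mem_ker, hD, map_mul, hσ]; ring
    exact ⟨⟨v, c, hc⟩, rfl⟩
  haveI : Finite (Hs σ) := Finite.of_injective (fun x : Hs σ => (x.v, x.c))
    fun _ _ e => Hs.ext (congrArg Prod.fst e) (congrArg Prod.snd e)
  have hc : Nat.card (Hs σ) = p ^ (b + b + b) := by
    have h3 : (Hs.pr (σ := σ)).range = ⊤ := MonoidHom.range_eq_top.2 fun k =>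
      (su k.toAdd).imp fun _ e => congrArg Multiplicative.ofAdd e
    rw [card_eq_card_quotient_mul_card_subgroup (Hs.pr (σ := σ)).ker,
      Nat.card_congr (QuotientGroup.quotientKerEquivRange _).toEquiv, h3, card_top, pow_add, ← hK, ← e3,
      ← Nat.card_eq_fintype_card]
    congr 1
    refine Nat.card_congr ⟨fun x => ⟨x.1.c, ?_⟩, fun c => ⟨⟨0, c.1, ?_⟩, rfl⟩, fun x => ?_, fun _ => rfl⟩
    · have : x.1.v = 0 := x.2
      rw [AddMonoidHom.mem_ker, hT, x.1.h, this, zero_mul]
    · rw [zero_mul]; exact c.2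
    · exact Subtype.ext (Hs.ext (Eq.symm x.2) rfl)
  rw [← hc]
  refine exists_of_aut hpq hr (IsPGroup.of_card hc) (Hs.aut h1) ?_ ?_ fun U hU hU' u hu => ?_
  · ext x
    · rw [(Hs.aut_pow h1 q x).1, ← ho, pow_orderOf_eq_one, one_mul]; rfl
    · exact (Hs.aut_pow h1 q x).2
  · intro e
    obtain ⟨x, hx⟩ := su 1
    have : ζ * x.v = x.v := congrArg Hs.v (DFunLike.congr_fun e x)
    rw [hx, mul_one] at this
    exact h2 (by rw [this, mul_one])
  · rcases hi (Subgroup.toAddSubgroup' (U.map Hs.pr)) (by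
      rintro _ ⟨x, hx, e⟩
      exact ⟨_, hU' x hx, congrArg (fun t => Multiplicative.ofAdd (ζ * t.toAdd)) e⟩) with e | e
    · have : u.v ∈ Subgroup.toAddSubgroup' (U.map Hs.pr) := ⟨u, hu, rfl⟩
      rw [e, AddSubgroup.mem_bot] at this
      exact Hs.ext (show ζ * u.v = u.v by rw [this, mul_zero]) rfl
    · exfalso
      have s2 : ∀ v, ∃ x ∈ U, x.v = v := fun v => by
        have : v ∈ Subgroup.toAddSubgroup' (U.map Hs.pr) := e ▸ AddSubgroup.mem_top v
        exact this
      refine hU (eq_top_iff.2 fun x _ => ?_)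
      obtain ⟨y, hy, e'⟩ := s2 x.v
      have h4 : (y⁻¹ * x).c ∈ D.range := by
        rw [e2, AddMonoidHom.mem_ker, hT, (y⁻¹ * x).h]; simp [e']
      obtain ⟨t, ht⟩ := h4
      obtain ⟨a, ha, ea⟩ := s2 t
      obtain ⟨c, hc, ec⟩ := s2 1
      have h5 : a * c * a⁻¹ * c⁻¹ = y⁻¹ * x := Hs.ext (by simp [e']) (by
        rw [← ht, hD]
        simp only [Hs.mul_c, Hs.mul_v, Hs.inv_c, Hs.inv_v, map_neg, ea, ec, map_one]
        have g1 := a.h
        have g2 := c.h
        rw [ea] at g1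
        rw [ec, map_one] at g2
        linear_combination g1 + g2)
      have := mul_mem hy (h5 ▸ mul_mem (mul_mem (mul_mem ha hc) (inv_mem ha)) (inv_mem hc))
      simpa using this

end Field

theorem exists_max [hp : Fact p.Prime] [hq : Fact q.Prime] (hpq : p ≠ q) (hr : 1 ≤ r) {a a₀ : ℕ}
    (ha : a = orderOf (p : ZMod q)) (ha₀ : a₀ = if a % 2 = 1 then a else 3 * a / 2) :
    ∃ (G : Type u) (_ : Group G) (_ : Finite G), MN p G ∧ Nat.card G = p ^ a₀ * q ^ r := by
  classical
  have a0 : 0 < a := ha ▸ ord_pos hpq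
  let K := GaloisField p a
  letI : Fintype K := Fintype.ofFinite K
  have hK : Fintype.card K = p ^ a := by
    rw [← Nat.card_eq_fintype_card]; exact GaloisField.card p a a0.ne'
  have hpa : ((p ^ a : ℕ) : ZMod q) = 1 := by rw [Nat.cast_pow, ha, pow_orderOf_eq_one]
  obtain ⟨ζ, ho⟩ := exists_prime_orderOf_dvd_card (G := Kˣ) q (by
    rw [Fintype.card_units, hK, ← ZMod.natCast_eq_zero_iff,
      Nat.cast_sub (Nat.one_le_pow _ _ hp.out.pos), hpa]; simp)
  rw [← orderOf_units] at ho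
  have hi : Irr (ζ : K) := irr_of_card (ha ▸ hK) ho
  have hne : (ζ : K) ≠ 1 := by intro e; rw [e, orderOf_one] at ho; exact hq.out.ne_one ho.symm
  split_ifs at ha₀ with hd
  · have hc : Nat.card (Multiplicative K) = p ^ a₀ := by
      rw [ha₀, ← hK, ← Nat.card_eq_fintype_card]; rfl
    rw [← hc]
    let α : MulAut (Multiplicative K) := AddEquiv.toMultiplicative (DistribMulAction.toAddEquiv K ζ)
    have hα : ∀ (n : ℕ) (x : Multiplicative K), ((α ^ n) x).toAdd = (ζ : K) ^ n * x.toAdd := by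
      intro n x
      induction n with
      | zero => simp
      | succ n ih => rw [pow_succ', MulAut.mul_apply, pow_succ', mul_assoc, ← ih]; rfl
    refine exists_of_aut hpq hr (IsPGroup.of_card hc) α ?_ ?_ fun U hU hU' u hu => ?_
    · ext x
      rw [hα, ← ho, pow_orderOf_eq_one, one_mul]; rfl
    · intro e
      have := hα 1 (Multiplicative.ofAdd 1)
      rw [pow_one, e] at this
      exact hne (by simpa using this.symm)
    · rcases hi (Subgroup.toAddSubgroup' U) (fun x hx => hU' _ hx) with e | e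
      · have : u.toAdd ∈ Subgroup.toAddSubgroup' U := hu
        rw [e, AddSubgroup.mem_bot] at this
        rw [show u = 1 from this, map_one]
      · refine absurd (eq_top_iff.2 fun x _ => ?_) hU
        have : x.toAdd ∈ Subgroup.toAddSubgroup' U := e ▸ AddSubgroup.mem_top _
        exact this
  · obtain ⟨b, rfl⟩ : ∃ b, a = b + b := ⟨a / 2, by omega⟩
    rw [ha₀, show 3 * (b + b) / 2 = b + b + b by omega]
    have e1 : (p : ZMod q) ^ b ≠ 1 := fun e => by
      have := orderOf_le_of_pow_eq_one (by omega) e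
      omega
    have e2 : (p : ZMod q) ^ b = -1 := (mul_self_eq_one_iff.1 (by
      rw [← pow_add, ha, pow_orderOf_eq_one])).resolve_left e1
    have e3 : (ζ : K) ^ p ^ b * ζ = 1 := by
      rw [← pow_succ, ← orderOf_dvd_iff_pow_eq_one, ho, ← ZMod.natCast_eq_zero_iff]
      push_cast
      rw [e2, neg_add_cancel]
    refine exists_hs hpq hr hK ho hi (iterateFrobenius K p b) (fun x => ?_) e3 fun e => e1 ?_
    · rw [iterateFrobenius_def, iterateFrobenius_def, ← pow_mul, ← pow_add, ← hK, FiniteField.pow_card]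
    · rw [← Nat.cast_pow, pow_iff ho]
      exact mul_right_cancel₀ ζ.ne_zero (e3.trans e.symm)

end Cfsg.Agent.Elu.Sm
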